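import Groth.Prelude
import Mathlib.RingTheory.LocalRing.ResidueField.Ideal
import Mathlib.RingTheory.Derivation.Basic
import Mathlib.RingTheory.Localization.Integer

/-!
# Clearing denominators of derivations into a residue field
-/

set_option autoImplicit false
universe u

namespace GrothLib.NagataFS

/-- Derivations into a residue field killing a subring over which the quotient is finite have a common denominator. -/
theorem exists_clear {k A S : Type u} [CommRing k] [CommRing A] [IsNoetherianRing A] [Algebra k A] [CommRing S]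
    (P : Ideal A) [P.IsPrime] (ρ : S →+* A) (hfin : ((Ideal.Quotient.mk P).comp ρ).Finite) {m : ℕ}
    (δ : Fin m → Derivation k A P.ResidueField) (hρ : ∀ i s, δ i (ρ s) = 0) :
    ∃ (c : A) (Db : Fin m → Derivation k A (A ⧸ P)), c ∉ P ∧
      ∀ i a, algebraMap (A ⧸ P) P.ResidueField (Db i a) = algebraMap A P.ResidueField c * δ i a := by
  classical
  let L := P.ResidueField
  obtain ⟨b, gen, hgen⟩ : ∃ (b : ℕ) (gen : Fin b → A), Ideal.span (Set.range gen) = P :=
    Submodule.fg_iff_exists_fin_generating_family.1 (IsNoetherian.noetherian P)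
  letI : Algebra S (A ⧸ P) := ((Ideal.Quotient.mk P).comp ρ).toAlgebra
  haveI : Module.Finite S (A ⧸ P) := hfin
  obtain ⟨a, g, hg⟩ := Module.Finite.exists_fin (R := S) (M := A ⧸ P)
  choose g' hg' using fun l => Ideal.Quotient.mk_surjective (g l)
  obtain ⟨⟨c, hc⟩, hcG⟩ := IsLocalization.exist_integer_multiples_of_finite (S := L) (nonZeroDivisors (A ⧸ P))
    (fun z : Fin m × (Fin a ⊕ Fin b) => δ z.1 (Sum.elim g' gen z.2))
  obtain ⟨c, rfl⟩ := Ideal.Quotient.mk_surjective c
  have hinj : Function.Injective (algebraMap (A ⧸ P) L) := IsFractionRing.injective (A ⧸ P) L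
  have hcP : c ∉ P := fun h => nonZeroDivisors.ne_zero hc (Ideal.Quotient.eq_zero_iff_mem.2 h)
  have halg : ∀ x : A, algebraMap (A ⧸ P) L (Ideal.Quotient.mk P x) = algebraMap A L x := fun x =>
    (IsScalarTower.algebraMap_apply A (A ⧸ P) L x).symm
  let N : Set L := {x | ∃ w : A ⧸ P, algebraMap (A ⧸ P) L w = algebraMap A L c * x}
  have hNadd : ∀ {x y}, x ∈ N → y ∈ N → x + y ∈ N := fun ⟨u, hu⟩ ⟨v, hv⟩ => ⟨u + v, by rw [map_add, hu, hv, mul_add]⟩
  have hNsmul : ∀ (r : A) {x}, x ∈ N → r • x ∈ N := fun r x ⟨u, hu⟩ =>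
    ⟨Ideal.Quotient.mk P r * u, by rw [map_mul, halg, hu, Algebra.smul_def]; ring⟩
  have hN0 : (0 : L) ∈ N := ⟨0, by simp⟩
  have hN : ∀ z : Fin m × (Fin a ⊕ Fin b), δ z.1 (Sum.elim g' gen z.2) ∈ N := fun z => by
    obtain ⟨w, hw⟩ := hcG z
    exact ⟨w, hw.trans ((Algebra.smul_def _ _).trans (by rw [halg]))⟩
  have hall : ∀ i x, δ i x ∈ N := by
    intro i
    have hP : ∀ y ∈ P, δ i y ∈ N := by
      intro y hy
      rw [← hgen] at hy
      obtain ⟨r, rfl⟩ := Ideal.mem_span_range_iff_exists_fun.1 hy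
      rw [map_sum]
      refine Finset.sum_induction _ (· ∈ N) (fun _ _ => hNadd) hN0 fun n _ => ?_
      rw [Derivation.leibniz, Algebra.smul_def (gen n),
        show algebraMap A L (gen n) = 0 from (Ideal.algebraMap_residueField_eq_zero).2 (hgen ▸ Ideal.subset_span ⟨n, rfl⟩),
        zero_mul, add_zero]
      exact hNsmul _ (hN (i, Sum.inr n))
    intro x
    obtain ⟨s, hs⟩ := (Submodule.mem_span_range_iff_exists_fun S).1
      (show Ideal.Quotient.mk P x ∈ Submodule.span S (Set.range g) by rw [hg]; trivial)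
    have hmem : x - ∑ l, ρ (s l) * g' l ∈ P := by
      rw [← Ideal.Quotient.eq, map_sum, ← hs]
      refine Finset.sum_congr rfl fun l _ => ?_
      rw [map_mul, hg']
      rfl
    rw [show x = (x - ∑ l, ρ (s l) * g' l) + ∑ l, ρ (s l) * g' l by ring, map_add, map_sum]
    refine hNadd (hP _ hmem) (Finset.sum_induction _ (· ∈ N) (fun _ _ => hNadd) hN0 fun l _ => ?_)
    rw [Derivation.leibniz, hρ, smul_zero, add_zero]
    exact hNsmul _ (hN (i, Sum.inl l))
  choose Df hDf using hall
  refine ⟨c, fun i => Derivation.mk'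
    { toFun := Df i
      map_add' := fun x y => hinj (by rw [map_add, hDf, hDf, hDf, map_add, mul_add])
      map_smul' := fun r x => hinj (by
        rw [hDf, RingHom.id_apply, Derivation.map_smul, ← algebraMap_smul A r (δ i x), Algebra.smul_def,
          ← algebraMap_smul A r (Df i x), Algebra.smul_def (algebraMap k A r) (Df i x), map_mul, hDf,
          Ideal.Quotient.algebraMap_eq, halg]
        ring) } fun x y => hinj ?_, hcP, fun i x => hDf i x⟩
  show algebraMap (A ⧸ P) L (Df i (x * y)) = algebraMap (A ⧸ P) L (x • Df i y + y • Df i x)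
  rw [Algebra.smul_def, Algebra.smul_def, map_add, map_mul, map_mul, hDf, hDf, hDf, Derivation.leibniz,
    Algebra.smul_def, Algebra.smul_def, Ideal.Quotient.algebraMap_eq, halg, halg]
  ring

end GrothLib.NagataFS
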