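import Groth.Prelude
import Mathlib.RingTheory.Filtration
import Mathlib.RingTheory.LocalRing.ResidueField.Ideal
import Mathlib.LinearAlgebra.Basis.VectorSpace
import Mathlib.RingTheory.Nakayama

/-!
# Derivations dual to minimal equations of a formally smooth quotient
-/

set_option autoImplicit false
universe u

open IsLocalRing

namespace GrothLib.NagataFS

/-- A formally smooth quotient has derivations of the ambient ring dual to its minimal equations. -/
theorem exists_dual_derivations {k R B : Type u} [CommRing k] [CommRing R] [IsLocalRing R] [IsNoetherianRing R]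
    [CommRing B] [IsLocalRing B] [Algebra k R] [Algebra k B] (g : R →ₐ[k] B) (hg : Function.Surjective g)
    (hB : CAlgX.IsAdicFormallySmooth k B (maximalIdeal B)) {m : ℕ} (f : Fin m → R) (hf : ∀ j, f j ∈ RingHom.ker g)
    (hmin : ∀ c : Fin m → R, ∑ j, c j * f j ∈ maximalIdeal R * RingHom.ker g → ∀ j, c j ∈ maximalIdeal R) :
    ∃ δ : Fin m → Derivation k R (ResidueField R), ∀ i j, δ i (f j) = if i = j then 1 else 0 := by
  classical
  let M := maximalIdeal R
  let I := RingHom.ker g
  have hIM : I ≤ M := le_maximalIdeal (RingHom.ker_ne_top g)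
  obtain ⟨e, he⟩ := M.exists_pow_inf_eq_pow_smul (I : Submodule R R)
  let N := e + 1
  have hAR : M ^ N ⊓ I ≤ M * I := by
    have h := he N (Nat.le_succ e)
    rw [show N - e = 1 by simp [N], pow_one, smul_eq_mul, Ideal.mul_top] at h
    rw [h, smul_eq_mul]
    exact Ideal.mul_mono le_rfl inf_le_right
  let K := M * I ⊔ M ^ N
  let J : Ideal (R ⧸ K) := (I ⊔ M ^ N).map (Ideal.Quotient.mk K)
  have hMJ : M * (I ⊔ M ^ N) ≤ K := by
    rw [Ideal.mul_sup]
    exact sup_le_sup le_rfl Ideal.mul_le_right
  have hIN : I ⊔ M ^ N ≤ M := sup_le hIM (Ideal.pow_le_self (Nat.succ_ne_zero e))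
  have hJ2 : J ^ 2 = ⊥ := by
    rw [pow_two, ← Ideal.map_mul, Ideal.map_eq_bot_iff_le_ker, Ideal.mk_ker]
    exact (Ideal.mul_mono hIN le_rfl).trans hMJ
  let π : R →ₐ[k] (R ⧸ K) ⧸ J := (Ideal.Quotient.mkₐ k J).comp (Ideal.Quotient.mkₐ k K)
  have hπ : ∀ x ∈ I ⊔ M ^ N, π x = 0 := fun x hx => Ideal.Quotient.eq_zero_iff_mem.2 (Ideal.mem_map_of_mem _ hx)
  let ψ := AlgHom.liftOfSurjective g hg π fun x hx => hπ x (Ideal.mem_sup_left hx)
  have hψ : ∀ x, ψ (g x) = π x := fun x => by
    show ψ (g x) = π x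
    erw [AlgHom.liftOfSurjective_apply]
  obtain ⟨χ, hχ⟩ := hB _ J hJ2 ψ ⟨N, fun y hy => by
    rw [← IsLocalRing.map_maximalIdeal_of_surjective (g : R →+* B) hg, ← Ideal.map_pow,
      Ideal.mem_map_iff_of_surjective _ (show Function.Surjective (g : R →+* B) from hg)] at hy
    obtain ⟨x, hx, rfl⟩ := hy
    exact (hψ x).trans (hπ x (Ideal.mem_sup_right hx))⟩
  let V : Submodule R (R ⧸ K) := J.restrictScalars R
  have hdmem : ∀ a : R, Ideal.Quotient.mk K a - χ (g a) ∈ J := fun a => by
    rw [← Ideal.Quotient.eq_zero_iff_mem, map_sub]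
    have h := AlgHom.congr_fun hχ (g a)
    rw [AlgHom.comp_apply, hψ] at h
    rw [show Ideal.Quotient.mk J (χ (g a)) = π a from h]
    exact sub_self _
  have htor : Module.IsTorsionBySet R V (M : Set R) := by
    rintro ⟨x, hx⟩ ⟨r, hr⟩
    obtain ⟨y, hy, rfl⟩ := (Ideal.mem_map_iff_of_surjective _ Ideal.Quotient.mk_surjective).1
      (show x ∈ J from hx)
    refine Subtype.ext ?_
    show r • Ideal.Quotient.mk K y = 0
    rw [Algebra.smul_def, Ideal.Quotient.algebraMap_eq, ← map_mul, Ideal.Quotient.eq_zero_iff_mem]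
    exact hMJ (Ideal.mul_mem_mul hr hy)
  letI : Module (ResidueField R) V := htor.module
  haveI : IsScalarTower R (ResidueField R) V := htor.isScalarTower
  let v : Fin m → V := fun j => ⟨Ideal.Quotient.mk K (f j), Ideal.mem_map_of_mem _ (Ideal.mem_sup_left (hf j))⟩
  have hv : LinearIndependent (ResidueField R) v := by
    rw [Fintype.linearIndependent_iff]
    intro gc hgc i
    choose c hc using fun j => residue_surjective (gc j)
    have h1 : ∑ j, c j • v j = 0 := by
      rw [← hgc]
      exact Finset.sum_congr rfl fun j _ => by rw [← hc j]; exact (algebraMap_smul (ResidueField R) (c j) (v j)).symm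
    have h2 : Ideal.Quotient.mk K (∑ j, c j * f j) = 0 := by
      have h3 := congrArg Subtype.val h1
      rw [Submodule.coe_sum] at h3
      rw [map_sum]
      refine Eq.trans (Finset.sum_congr rfl fun j _ => ?_) h3
      rw [map_mul]
      rfl
    rw [Ideal.Quotient.eq_zero_iff_mem] at h2
    obtain ⟨y, hy, z, hz, hyz⟩ := Submodule.mem_sup.1 h2
    have hy' : y ∈ I := (Ideal.mul_le_right : M * I ≤ I) hy
    have hs' : ∑ j, c j * f j ∈ I := Submodule.sum_mem I fun j _ => I.mul_mem_left (c j) (hf j)
    have hzI : z ∈ I := by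
      rw [show z = ∑ j, c j * f j - y from eq_sub_of_add_eq' hyz]
      exact I.sub_mem hs' hy'
    have hz' : z ∈ M * I := hAR (Submodule.mem_inf.2 ⟨hz, hzI⟩)
    have hmem : ∑ j, c j * f j ∈ M * I := by
      rw [← hyz]
      exact Submodule.add_mem (M * I) hy hz'
    have h4 := hmin c hmem i
    rw [← hc i]
    exact (residue_eq_zero_iff _).2 h4
  obtain ⟨lam, hlam⟩ := LinearMap.exists_leftInverse_of_injective (Fintype.linearCombination (ResidueField R) v)
    (LinearMap.ker_eq_bot.2 hv.fintypeLinearCombination_injective)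
  have hlv : ∀ j, lam (v j) = Pi.single j 1 := fun j => by
    have h := LinearMap.congr_fun hlam (Pi.single j 1)
    rw [LinearMap.comp_apply, Fintype.linearCombination_apply_single, one_smul] at h
    exact h
  let d : R → V := fun a => ⟨Ideal.Quotient.mk K a - χ (g a), hdmem a⟩
  have hdadd : ∀ a b, d (a + b) = d a + d b := fun a b => Subtype.ext (by
    simp only [d, Submodule.coe_add, map_add]; abel)
  have hdk : ∀ (c : k) a, d (c • a) = algebraMap k R c • d a := fun c a => Subtype.ext (by
    show Ideal.Quotient.mk K (c • a) - χ (g (c • a)) = algebraMap k R c • (Ideal.Quotient.mk K a - χ (g a))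
    rw [← Ideal.Quotient.mkₐ_eq_mk k, map_smul, map_smul, map_smul, algebraMap_smul, smul_sub])
  have hdmul : ∀ a b, d (a * b) = a • d b + b • d a := fun a b => Subtype.ext (by
    show Ideal.Quotient.mk K (a * b) - χ (g (a * b)) =
      a • (Ideal.Quotient.mk K b - χ (g b)) + b • (Ideal.Quotient.mk K a - χ (g a))
    have h0 : (Ideal.Quotient.mk K a - χ (g a)) * (Ideal.Quotient.mk K b - χ (g b)) = 0 := by
      have := Ideal.mul_mem_mul (hdmem a) (hdmem b)
      rwa [← pow_two, hJ2, Ideal.mem_bot] at this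
    rw [Algebra.smul_def, Algebra.smul_def, Ideal.Quotient.algebraMap_eq, map_mul, map_mul, map_mul]
    linear_combination -h0)
  have hdf : ∀ j, d (f j) = v j := fun j => Subtype.ext (by
    show Ideal.Quotient.mk K (f j) - χ (g (f j)) = Ideal.Quotient.mk K (f j)
    rw [RingHom.mem_ker.1 (hf j), map_zero, sub_zero])
  have hlR : ∀ (r : R) (x : V) (i : Fin m), lam (r • x) i = r • lam x i := fun r x i => by
    rw [← algebraMap_smul (ResidueField R) r x, map_smul, Pi.smul_apply, algebraMap_smul]
  refine ⟨fun i => Derivation.mk' (R := k)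
    { toFun := fun a => lam (d a) i
      map_add' := fun a b => by rw [hdadd, map_add, Pi.add_apply]
      map_smul' := fun c a => by rw [hdk, hlR, algebraMap_smul, RingHom.id_apply] } fun a b => ?_, fun i j => ?_⟩
  · show lam (d (a * b)) i = a • lam (d b) i + b • lam (d a) i
    rw [hdmul, map_add, Pi.add_apply, hlR, hlR]
  · show lam (d (f j)) i = _
    rw [hdf, hlv, Pi.single_apply]

/-- Minimal generators taken from a given set. -/
theorem exists_minimal_generators {R : Type u} [CommRing R] [IsLocalRing R] [IsNoetherianRing R] {α : Type u}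
    (s : α → R) (I : Ideal R) (hI : I = Ideal.span (Set.range s)) :
    ∃ (m : ℕ) (a : Fin m → α), I = Ideal.span (Set.range fun i => s (a i)) ∧
      ∀ c : Fin m → R, ∑ j, c j * s (a j) ∈ maximalIdeal R * I → ∀ j, c j ∈ maximalIdeal R := by
  classical
  have hex : ∃ (m : ℕ) (a : Fin m → α), I = Ideal.span (Set.range fun i => s (a i)) := by
    obtain ⟨T, hT, hTs⟩ := (Submodule.fg_span_iff_fg_span_finset_subset (Set.range s)).1
      (hI ▸ (IsNoetherian.noetherian I) : (Ideal.span (Set.range s)).FG)
    choose a ha using fun x : T => hT x.2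
    refine ⟨T.card, fun i => a (T.equivFin.symm i), ?_⟩
    rw [hI, show (fun i => s (a (T.equivFin.symm i))) = (fun x : T => (x : R)) ∘ T.equivFin.symm from
      funext fun i => ha _, T.equivFin.symm.surjective.range_comp, show Set.range (fun x : T => (x : R)) = (T : Set R) from Subtype.range_coe]
    exact hTs
  let m := Nat.find hex
  obtain ⟨a, ha⟩ := Nat.find_spec hex
  refine ⟨m, a, ha, fun c hc j0 => ?_⟩
  by_contra hj
  have hu : IsUnit (c j0) := notMem_maximalIdeal.1 hj
  have hm0 : 0 < m := lt_of_le_of_lt (Nat.zero_le _) j0.2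
  obtain ⟨m', hm'⟩ : ∃ m', m = m' + 1 := ⟨m - 1, by omega⟩
  let a' : Fin m → α := a
  let others : Set R := (fun i => s (a' i)) '' {i | i ≠ j0}
  have hle : I ≤ Ideal.span others ⊔ maximalIdeal R • I := by
    conv_lhs => rw [ha]
    rw [Ideal.span_le]
    rintro _ ⟨i, rfl⟩
    by_cases hij : i = j0
    · subst hij
      rw [SetLike.mem_coe, ← Ideal.unit_mul_mem_iff_mem _ hu,
        show c i * s (a i) = (∑ j, c j * s (a j)) - ∑ j ∈ Finset.univ.erase i, c j * s (a j) by
          rw [← Finset.add_sum_erase _ _ (Finset.mem_univ i)]; abel]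
      refine sub_mem (Submodule.mem_sup_right hc) (Submodule.mem_sup_left (Ideal.sum_mem _ fun j hj => ?_))
      exact Ideal.mul_mem_left _ _ (Ideal.subset_span ⟨j, Finset.ne_of_mem_erase hj, rfl⟩)
    · exact Submodule.mem_sup_left (Ideal.subset_span ⟨i, hij, rfl⟩)
  have hsub : Ideal.span others ≤ I := by
    rw [ha]
    exact Ideal.span_mono (Set.image_subset_range _ _)
  have hnak : I ≤ Ideal.span others :=
    Submodule.le_of_le_smul_of_le_jacobson_bot (IsNoetherian.noetherian I)
      (maximalIdeal_le_jacobson _) hle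
  let e : Fin m' ≃ {i : Fin m // i ≠ j0} :=
    (Fintype.equivFinOfCardEq (by simp [hm'])).symm
  refine Nat.find_min hex (show m' < Nat.find hex by omega) ⟨fun i => a' (e i), le_antisymm (hnak.trans ?_) ?_⟩
  · refine Ideal.span_mono ?_
    rintro _ ⟨i, hi, rfl⟩
    exact ⟨e.symm ⟨i, hi⟩, by simp⟩
  · conv_rhs => rw [ha]
    exact Ideal.span_mono (by rintro _ ⟨i, rfl⟩; exact ⟨e i, rfl⟩)

end GrothLib.NagataFS
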