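import Groth.Agent.Lib.J2.Detect

/-!
# Differentials along a decreasing family of power series subrings
-/

set_option autoImplicit false
set_option linter.style.haveILetI false
universe u

open EGA41

namespace GrothLib.NagataFS

/-- A finite family independent over the intersection of a directed family of subfields is independent over one of them. -/
theorem exists_indep {L : Type u} [Field L] {ι : Type u} (Ks : Finset ι → Subfield L)
    (hanti : ∀ s t, s ⊆ t → Ks t ≤ Ks s) (K0 : Subfield L)
    (hinter : ∀ x, (∀ s, x ∈ Ks s) → x ∈ K0) :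
    ∀ {N : ℕ} (u : Fin N → L), LinearIndependent K0 u → ∃ s, LinearIndependent (Ks s) u := by
  classical
  intro N
  induction N with
  | zero => exact fun u _ => ⟨∅, linearIndependent_empty_type⟩
  | succ N ih =>
    intro u hu
    obtain ⟨hu', hlast⟩ := linearIndependent_finSucc'.1 hu
    obtain ⟨s₀, hs₀⟩ := ih (Fin.init u) hu'
    by_contra hno
    push Not at hno
    have hmono : ∀ t, s₀ ⊆ t → LinearIndependent (Ks t) (Fin.init u) := by
      intro t ht
      rw [Fintype.linearIndependent_iff] at hs₀ ⊢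
      intro g hg i
      have h' := hs₀ (fun j => ⟨(g j : L), hanti s₀ t ht (g j).2⟩) (by
        rw [← hg]; exact Finset.sum_congr rfl fun j _ => rfl) i
      exact Subtype.ext (congrArg Subtype.val h' :)
    have hcoef : ∀ t, s₀ ⊆ t → ∃ c : Fin N → L, (∀ i, c i ∈ Ks t) ∧ ∑ i, c i * Fin.init u i = u (Fin.last N) := by
      intro t ht
      have h1 : u (Fin.last N) ∈ Submodule.span (Ks t) (Set.range (Fin.init u)) := by
        by_contra h
        exact hno t (linearIndependent_finSucc'.2 ⟨hmono t ht, h⟩)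
      obtain ⟨c, hc⟩ := (Submodule.mem_span_range_iff_exists_fun (Ks t)).1 h1
      exact ⟨fun i => c i, fun i => (c i).2, hc⟩
    obtain ⟨c, hc, hca⟩ := hcoef s₀ subset_rfl
    have hcK : ∀ j, c j ∈ K0 := fun j => hinter _ fun s => by
      obtain ⟨c', hc', hca'⟩ := hcoef (s₀ ∪ s) Finset.subset_union_left
      have heq := Fintype.linearIndependent_iff.1 hs₀
        (fun i => ⟨c i - c' i, sub_mem (hc i) (hanti _ _ Finset.subset_union_left (hc' i))⟩) (by
          show ∑ i, (c i - c' i) * Fin.init u i = 0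
          simp only [sub_mul, Finset.sum_sub_distrib]
          rw [hca, hca', sub_self]) j
      rw [sub_eq_zero.1 (congrArg Subtype.val heq :)]
      exact hanti _ _ Finset.subset_union_right (hc' j)
    refine hlast ((Submodule.mem_span_range_iff_exists_fun K0).2 ⟨fun i => ⟨c i, hcK i⟩, ?_⟩)
    exact hca

/-- A span closed under products and containing all `p`-th powers is a subfield. -/
theorem exists_subfield_span {L : Type u} [Field L] (p : ℕ) [hp : Fact p.Prime] (F : Subfield L) {α : Type*}
    (u : α → L) (hmul : ∀ i l, u i * u l ∈ Submodule.span F (Set.range u))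
    (hpow : ∀ y : L, y ^ p ∈ Submodule.span F (Set.range u)) :
    ∃ E : Subfield L, (E : Set L) = Submodule.span F (Set.range u) := by
  let W := Submodule.span F (Set.range u)
  have h1 : (1 : L) ∈ W := by
    have := hpow 1
    rwa [one_pow] at this
  have hm : ∀ x ∈ W, ∀ y ∈ W, x * y ∈ W := by
    intro x hx y hy
    have h2 := Submodule.mul_mem_mul hx hy
    rw [Submodule.span_mul_span] at h2
    refine Submodule.span_le.2 ?_ h2
    rintro _ ⟨_, ⟨i, rfl⟩, _, ⟨i', rfl⟩, rfl⟩
    exact hmul i i'
  have hpw : ∀ x ∈ W, ∀ n : ℕ, x ^ n ∈ W := fun x hx n => by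
    induction n with
    | zero => rwa [pow_zero]
    | succ n ih => rw [pow_succ]; exact hm _ ih _ hx
  refine ⟨{ carrier := W
            zero_mem' := W.zero_mem
            one_mem' := h1
            add_mem' := fun ha hb => W.add_mem ha hb
            neg_mem' := fun ha => W.neg_mem ha
            mul_mem' := fun ha hb => hm _ ha _ hb
            inv_mem' := fun x hx => ?_ }, rfl⟩
  rcases eq_or_ne x 0 with rfl | hx0
  · rw [inv_zero]; exact W.zero_mem
  · have h := hm _ (hpw x hx (p - 1)) _ (hpow x⁻¹)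
    have e : x ^ (p - 1) * x⁻¹ ^ p = x⁻¹ := by
      obtain ⟨q, hq⟩ : ∃ q, p = q + 1 := ⟨p - 1, (Nat.sub_add_cancel hp.out.one_le).symm⟩
      rw [hq, Nat.add_sub_cancel, pow_succ, ← mul_assoc, ← mul_pow, mul_inv_cancel₀ hx0, one_pow, one_mul]
    rwa [e] at h

/-- Outside a subfield containing the `p`-th powers some derivation over it takes the value one. -/
theorem exists_derivation_one {L : Type u} [Field L] (p : ℕ) [hp : Fact p.Prime] [CharP L p] (E : Subfield L)
    (hE : ∀ y : L, y ^ p ∈ E) {z : L} (hz : z ∉ E) :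
    ∃ η : Derivation ℤ L L, (∀ e ∈ E, η e = 0) ∧ η z = 1 := by
  have hle : (PBasis.genField p E (∅ : Set L) : Set L) ⊆ E := fun y hy => by
    induction hy using IntermediateField.adjoin_induction with
    | mem y hy =>
      rcases hy with ⟨w, rfl⟩ | hy
      · exact hE w
      · exact absurd hy (Set.notMem_empty y)
    | algebraMap r => exact r.2
    | add _ _ _ _ h1 h2 => exact add_mem h1 h2
    | inv _ _ h1 => exact inv_mem h1
    | mul _ _ _ _ h1 h2 => exact mul_mem h1 h2
  have hind : IsPIndependent p E (fun _ : PUnit.{u+1} => z) := by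
    rw [PBasis.isPIndependent_iff]
    intro x hx
    rw [show (fun _ : PUnit.{u+1} => z) '' {b | b ≠ x} = ∅ by rw [Set.image_eq_empty]; ext b; simp] at hx
    exact hz (hle hx)
  obtain ⟨B, hB1, hB⟩ := PBasis.exists_pBasis_superset hind
  obtain ⟨b, hb⟩ := PBasis.exists_basis_kaehler (CharP.cast_eq_zero L p) _ hB
  let i0 : B := ⟨z, hB1 ⟨PUnit.unit, rfl⟩⟩
  let δ : Derivation E L L := (b.coord i0).compDer (KaehlerDifferential.D E L)
  refine ⟨δ.restrictScalars ℤ, fun e he => δ.map_algebraMap ⟨e, he⟩, ?_⟩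
  show b.coord i0 (KaehlerDifferential.D E L (Subtype.val i0)) = 1
  rw [← hb i0, Module.Basis.coord_apply, b.repr_self, Finsupp.single_eq_same]

variable (p : ℕ) [hp : Fact p.Prime] {k : Type u} [Field k] [CharP k p] (d : ℕ)

local notation "𝖱" => MvPowerSeries (Fin d) k

/-- The fields of fractions of the subrings meet in the `p`-th powers. -/
theorem family_inter {L : Type u} [Field L] [CharP L p] [ExpChar L p] {ι : Type u} (F : Finset ι → Subfield k)
    (hFp : ∀ s x, x ^ p ∈ F s) (hFfin : ∀ s, FiniteDimensional (F s) k)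
    (hFinter : ∀ x, (∀ s, x ∈ F s) → ∃ y, y ^ p = x) (j : 𝖱 →+* L) (hinj : Function.Injective j) :
    ∀ x, (∀ s, x ∈ Subfield.closure (Set.range (j.comp (J2.powEmb p d (F s))))) →
      x ∈ (Subfield.closure (Set.range j)).map (frobenius L p) := by
  classical
  intro x hx
  obtain ⟨u, v, huv⟩ := (J2.mem_closure_range (j.comp (J2.powEmb p d (F ∅)))).1 (hx ∅)
  set f := J2.powEmb p d (F ∅) u
  set g := J2.powEmb p d (F ∅) v
  replace huv : j f / j g = x := huv
  rcases eq_or_ne g 0 with hg | hg
  · rw [← huv, hg, map_zero, div_zero]; exact zero_mem _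
  obtain ⟨q, hq⟩ : ∃ q, p = q + 1 := ⟨p - 1, (Nat.sub_add_cancel hp.out.one_le).symm⟩
  have hjg : j g ≠ 0 := fun e => hg (hinj (e.trans (map_zero j).symm))
  have hh : ∀ s, f * g ^ q ∈ Set.range (J2.powEmb p d (F s)) := by
    intro s
    obtain ⟨gp, hgp⟩ := J2.pow_mem_range_powEmb p d (F s) (hFp s) g
    have hm : j (f * g ^ q) ∈ Subfield.closure (Set.range (j.comp (J2.powEmb p d (F s)))) := by
      have : j (f * g ^ q) = x * j (J2.powEmb p d (F s) gp) := by
        rw [hgp, ← huv, map_mul, map_pow, map_pow, hq, pow_succ']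
        field_simp
      rw [this]
      exact mul_mem (hx s) (Subfield.subset_closure ⟨gp, rfl⟩)
    obtain ⟨a', b', hab⟩ := (J2.mem_closure_range (j.comp (J2.powEmb p d (F s)))).1 hm
    haveI := hFfin s
    rcases eq_or_ne b' 0 with hb | hb
    · refine ⟨0, hinj ?_⟩
      rw [← hab, hb]
      simp
    · refine J2.mem_range_of_mul_eq p d (F s) (a := a') hb (hinj ?_)
      have hb' : j (J2.powEmb p d (F s) b') ≠ 0 := fun e =>
        hb (J2.powEmb_injective p d (F s) ((hinj (e.trans (map_zero j).symm)).trans (map_zero _).symm))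
      rw [map_mul, ← hab]
      exact div_mul_cancel₀ _ hb'
  have hroot : ∀ n, ∃ y, y ^ p = MvPowerSeries.coeff (p • n) (f * g ^ q) := fun n =>
    hFinter _ fun s => ((J2.mem_range_powEmb p d (F s) _).1 (hh s)).1 n
  choose r hr using hroot
  haveI : ExpChar k p := ExpChar.prime hp.out
  let r' : 𝖱 := r
  have hr' : ∀ n, MvPowerSeries.coeff n r' = r n := fun _ => rfl
  have hrp : r' ^ p = f * g ^ q := by
    refine MvPowerSeries.ext fun m => ?_
    rw [← MvPowerSeries.map_frobenius_expand p hp.out.ne_zero, MvPowerSeries.coeff_map]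
    by_cases hm : ∀ i, p ∣ m i
    · rw [J2.eq_smul_div p d hm, MvPowerSeries.coeff_expand_smul, frobenius_def, hr', hr]
    · push Not at hm
      obtain ⟨i, hi⟩ := hm
      rw [MvPowerSeries.coeff_expand_of_not_dvd p hp.out.ne_zero _ hi, map_zero,
        ((J2.mem_range_powEmb p d (F ∅) _).1 (hh ∅)).2 m i hi]
  refine ⟨j r' / j g, (show j r' / j g ∈ Subfield.closure (Set.range j) from
    div_mem (Subfield.subset_closure ⟨r', rfl⟩) (Subfield.subset_closure ⟨g, rfl⟩)), ?_⟩
  rw [frobenius_def, div_pow, ← map_pow, hrp, map_mul, map_pow, ← huv, hq, pow_succ']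
  field_simp

/-- The fraction field of a finite domain over power series is finite over the fractions of the series. -/
theorem finiteDimensional_closure {S L : Type u} [CommRing S] [Field L] [Algebra 𝖱 S] [Module.Finite 𝖱 S]
    [Algebra 𝖱 L] [Algebra S L] [IsScalarTower 𝖱 S L] [IsFractionRing S L] :
    FiniteDimensional (Subfield.closure (Set.range (algebraMap 𝖱 L))) L := by
  classical
  set j := algebraMap 𝖱 L
  let K : Subfield L := Subfield.closure (Set.range j)
  obtain ⟨T, hT⟩ := Module.Finite.fg_top (R := 𝖱) (M := S)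
  let U : Set L := (T.image (algebraMap S L) : Set L)
  haveI : Finite U := (T.image (algebraMap S L)).finite_toSet
  letI : Algebra 𝖱 K := (j.codRestrict K fun r => Subfield.subset_closure ⟨r, rfl⟩).toAlgebra
  haveI : IsScalarTower 𝖱 K L := IsScalarTower.of_algebraMap_eq fun _ => rfl
  haveI hfin : FiniteDimensional K (IntermediateField.adjoin K U) :=
    IntermediateField.finiteDimensional_adjoin fun x hx => by
      obtain ⟨y, -, rfl⟩ := Finset.mem_image.1 hx
      exact ((Algebra.IsIntegral.isIntegral (R := 𝖱) y).map (IsScalarTower.toAlgHom 𝖱 S L)).tower_top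
  have hS : ∀ y : S, algebraMap S L y ∈ IntermediateField.adjoin K U := fun y => by
    have hy : y ∈ Submodule.span 𝖱 (T : Set S) := hT.symm ▸ trivial
    induction hy using Submodule.span_induction with
    | mem z hz => exact IntermediateField.subset_adjoin K U (Finset.mem_image_of_mem _ hz)
    | zero => rw [map_zero]; exact zero_mem _
    | add z w _ _ hz hw => rw [map_add]; exact add_mem hz hw
    | smul c z _ hz =>
      rw [Algebra.smul_def, map_mul, ← IsScalarTower.algebraMap_apply 𝖱 S L,
        IsScalarTower.algebraMap_apply 𝖱 K L]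
      exact mul_mem (IntermediateField.algebraMap_mem _ _) hz
  have htop : IntermediateField.adjoin K U = ⊤ := eq_top_iff.2 fun z _ => by
    obtain ⟨x, y, -, rfl⟩ := IsFractionRing.div_surjective S (K := L) z
    exact div_mem (hS x) (hS y)
  haveI : FiniteDimensional K (⊤ : IntermediateField K L) := htop ▸ hfin
  exact (IntermediateField.topEquiv (F := K) (E := L)).toLinearEquiv.finiteDimensional

/-- No nonzero element lies in the span of the differentials of every subring of the family. -/
theorem eq_zero_of_mem_all {L : Type u} [Field L] [CharP L p] {ι : Type u} (F : Finset ι → Subfield k)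
    (hanti : ∀ s t, s ⊆ t → F t ≤ F s)
    (hFp : ∀ s x, x ^ p ∈ F s) (hFfin : ∀ s, FiniteDimensional (F s) k)
    (hFinter : ∀ x, (∀ s, x ∈ F s) → ∃ y, y ^ p = x) (j : 𝖱 →+* L) (hinj : Function.Injective j)
    [FiniteDimensional (Subfield.closure (Set.range j)) L]
    {V : Type u} [AddCommGroup V] [Module L V] (Δ : 𝖱 →+ V)
    (hΔ : ∀ a b, Δ (a * b) = j a • Δ b + j b • Δ a)
    (hlift : ∀ η : Derivation ℤ L L, ∃ φ : V →ₗ[L] L, ∀ r, φ (Δ r) = η (j r))
    (x : V) (hx : ∀ s, x ∈ Submodule.span L (Δ '' Set.range (J2.powEmb p d (F s)))) : x = 0 := by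
  classical
  haveI : ExpChar L p := ExpChar.prime hp.out
  let K : Subfield L := Subfield.closure (Set.range j)
  let K0 : Subfield L := K.map (frobenius L p)
  let Ks : Finset ι → Subfield L := fun s => Subfield.closure (Set.range (j.comp (J2.powEmb p d (F s))))
  have hKanti : ∀ s t, s ⊆ t → Ks t ≤ Ks s := by
    intro s t hst
    refine Subfield.closure_mono ?_
    rintro _ ⟨g, rfl⟩
    obtain ⟨g', hg'⟩ : J2.powEmb p d (F t) g ∈ Set.range (J2.powEmb p d (F s)) := by
      have := (J2.mem_range_powEmb p d (F t) _).1 ⟨g, rfl⟩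
      exact (J2.mem_range_powEmb p d (F s) _).2 ⟨fun n => hanti s t hst (this.1 n), this.2⟩
    exact ⟨g', congrArg j hg'⟩
  have h0 : ∀ s, K0 ≤ Ks s := fun s => by
    rw [show K0 = Subfield.closure (frobenius L p '' Set.range j) from RingHom.map_field_closure _ _,
      Subfield.closure_le]
    rintro _ ⟨_, ⟨r, rfl⟩, rfl⟩
    obtain ⟨g, hg⟩ := J2.pow_mem_range_powEmb p d (F s) (hFp s) r
    exact Subfield.subset_closure ⟨g, by rw [RingHom.comp_apply, hg, frobenius_def, map_pow]⟩
  have hinter : ∀ y, (∀ s, y ∈ Ks s) → y ∈ K0 := family_inter p d F hFp hFfin hFinter j hinj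
  -- a basis of the `p`-th powers
  let bE := Module.finBasis K L
  let u : Fin (Module.finrank K L) → L := fun i => bE i ^ p
  have hspanP : ∀ y : L, y ^ p ∈ Submodule.span K0 (Set.range u) := fun y => by
    rw [← frobenius_def, ← bE.sum_repr y, map_sum]
    refine sum_mem fun i _ => ?_
    rw [Subfield.smul_def, smul_eq_mul, map_mul]
    exact Submodule.smul_mem _ (⟨frobenius L p (bE.repr y i : L), ⟨_, (bE.repr y i).2, rfl⟩⟩ : K0)
      (Submodule.subset_span ⟨i, rfl⟩)
  have hu : LinearIndependent K0 u := by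
    rw [Fintype.linearIndependent_iff]
    intro g hg i
    choose e he heq using fun i => (g i).2
    have h1 : frobenius L p (∑ i, (⟨e i, he i⟩ : K) • bE i) = 0 := by
      rw [map_sum, ← hg]
      refine Finset.sum_congr rfl fun i _ => ?_
      rw [Subfield.smul_def, smul_eq_mul, map_mul, heq]
      rfl
    have h2 := Fintype.linearIndependent_iff.1 bE.linearIndependent _ ((frobenius L p).injective (h1.trans (map_zero _).symm)) i
    refine Subtype.ext ?_
    rw [← heq i, show e i = 0 from congrArg Subtype.val h2, map_zero]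
    rfl
  obtain ⟨s₀, hs₀⟩ := exists_indep Ks hKanti K0 hinter u hu
  -- a shortest expression
  by_contra hx0
  have hex : ∃ (n : ℕ) (a : Fin n → L) (r : Fin n → 𝖱),
      (∀ i, r i ∈ Set.range (J2.powEmb p d (F s₀))) ∧ x = ∑ i, a i • Δ (r i) := by
    obtain ⟨n, a, g, hag⟩ := Submodule.mem_span_set'.1 (hx s₀)
    choose r hr hr' using fun i => (g i).2
    exact ⟨n, a, r, hr, by rw [← hag]; exact Finset.sum_congr rfl fun i _ => by rw [hr']⟩
  obtain ⟨a, r, hr, hxe⟩ := Nat.find_spec hex
  obtain ⟨n, hn⟩ : ∃ n, Nat.find hex = n + 1 := by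
    rcases Nat.eq_zero_or_pos (Nat.find hex) with h | h
    · exfalso
      haveI : IsEmpty (Fin (Nat.find hex)) := by rw [h]; infer_instance
      exact hx0 (hxe.trans (Finset.sum_of_isEmpty _))
    · exact ⟨_, (Nat.sub_add_cancel h).symm⟩
  let e : Fin (n + 1) ≃ Fin (Nat.find hex) := finCongr hn.symm
  let a' := a ∘ e
  let r' := r ∘ e
  have hr' : ∀ i, r' i ∈ Set.range (J2.powEmb p d (F s₀)) := fun i => hr _
  have hxe' : x = a' 0 • Δ (r' 0) + ∑ i, a' i.succ • Δ (r' (Fin.succ i)) := by
    rw [hxe, ← e.sum_comp, Fin.sum_univ_succ]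
    rfl
  let others : Fin n → L := fun i => j (r' i.succ)
  have hpI : ∀ y : L, IsIntegral K0 y := fun y => by
    obtain ⟨W, hW⟩ := exists_subfield_span p K0 u (fun i l => by
      show bE i ^ p * bE l ^ p ∈ _
      rw [← mul_pow]; exact hspanP _) hspanP
    refine IsIntegral.of_pow hp.out.pos (IsIntegral.of_mem_of_fg
      ({ W.toSubring with algebraMap_mem' := fun c => ?_ } : Subalgebra K0 L) ?_ (y ^ p) ?_)
    · show (c : L) ∈ W
      rw [← SetLike.mem_coe, hW, show (c : L) = c • (1 : L) by rw [Subfield.smul_def, smul_eq_mul, mul_one]]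
      refine Submodule.smul_mem _ _ ?_
      have h := hspanP 1
      rwa [one_pow] at h
    · refine ⟨Finset.univ.image u, SetLike.coe_injective ?_⟩
      rw [Finset.coe_image, Finset.coe_univ, Set.image_univ]
      exact hW.symm
    · show y ^ p ∈ W
      rw [← SetLike.mem_coe, hW]
      exact hspanP y
  let S0 : Set L := Set.range u ∪ Set.range others
  haveI : Finite S0 := ((Set.finite_range u).union (Set.finite_range others)).to_subtype
  haveI : FiniteDimensional K0 (IntermediateField.adjoin K0 S0) :=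
    IntermediateField.finiteDimensional_adjoin fun y _ => hpI y
  let Q := IntermediateField.adjoin K0 S0
  by_cases hz : j (r' 0) ∈ Q
  · -- the first differential is superfluous
    let T : Subfield L := Subfield.closure ((K0 : Set L) ∪ Set.range others)
    have hK0T : ∀ c ∈ K0, c ∈ T := fun c hc => Subfield.subset_closure (Or.inl hc)
    have hrK : ∀ i, j (r' i) ∈ Ks s₀ := fun i => by
      obtain ⟨g, hg⟩ := hr' i
      exact Subfield.subset_closure ⟨g, congrArg j hg⟩
    have hTK : T ≤ Ks s₀ := Subfield.closure_le.2 (Set.union_subset (h0 s₀) (by rintro _ ⟨i, rfl⟩; exact hrK _))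
    have hcast : ∀ y, y ∈ Submodule.span K0 (Set.range u) → y ∈ Submodule.span T (Set.range u) := fun y hy => by
      obtain ⟨c, rfl⟩ := (Submodule.mem_span_range_iff_exists_fun K0).1 hy
      exact (Submodule.mem_span_range_iff_exists_fun T).2 ⟨fun i => ⟨c i, hK0T _ (c i).2⟩, rfl⟩
    obtain ⟨W, hW⟩ := exists_subfield_span p T u (fun i l => hcast _ (by
      show bE i ^ p * bE l ^ p ∈ _
      rw [← mul_pow]; exact hspanP _)) fun y => hcast _ (hspanP y)
    have hTW : ∀ c ∈ T, c ∈ W := fun c hc => by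
      rw [← SetLike.mem_coe, hW, show c = (⟨c, hc⟩ : T) • (1 : L) by rw [Subfield.smul_def, smul_eq_mul, mul_one]]
      have h1 : (1 : L) ∈ Submodule.span T (Set.range u) := by
        rw [← SetLike.mem_coe, ← hW]; exact W.one_mem
      exact Submodule.smul_mem _ _ h1
    have hzW : j (r' 0) ∈ W := by
      clear_value others
      generalize j (r' 0) = z at hz ⊢
      induction hz using IntermediateField.adjoin_induction with
      | mem y hy =>
        rcases hy with hy | hy
        · rw [← SetLike.mem_coe, hW]; exact Submodule.subset_span hy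
        · exact hTW _ (Subfield.subset_closure (Or.inr hy))
      | algebraMap c => exact hTW _ (hK0T _ c.2)
      | add _ _ _ _ h1 h2 => exact add_mem h1 h2
      | inv _ _ h1 => exact inv_mem h1
      | mul _ _ _ _ h1 h2 => exact mul_mem h1 h2
    rw [← SetLike.mem_coe, hW, SetLike.mem_coe] at hzW
    obtain ⟨w, hw⟩ := (Submodule.mem_span_range_iff_exists_fun T).1 hzW
    obtain ⟨η, hη⟩ := (Submodule.mem_span_range_iff_exists_fun K0).1 (hspanP 1)
    rw [one_pow] at hη
    obtain ⟨i₁, hi₁⟩ : ∃ i, (η i : L) ≠ 0 := by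
      by_contra hall
      push Not at hall
      refine one_ne_zero (α := L) ?_
      rw [← hη]
      exact Finset.sum_eq_zero fun i _ => by rw [Subfield.smul_def, hall i, zero_smul]
    have hzero := Fintype.linearIndependent_iff.1 hs₀
      (fun i => ⟨(w i : L) - j (r' 0) * (η i : L),
        sub_mem (hTK (w i).2) (mul_mem (hrK 0) (h0 s₀ (η i).2))⟩) (by
        have h := congrArg (j (r' 0) * ·) hη
        simp only [Finset.mul_sum, mul_one, Subfield.smul_def, smul_eq_mul] at h
        simp only [Subfield.smul_def, smul_eq_mul] at hw ⊢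
        simp only [sub_mul, Finset.sum_sub_distrib, mul_assoc]
        rw [hw, h, sub_self]) i₁
    have hzT : j (r' 0) ∈ T := by
      have h := sub_eq_zero.1 (congrArg Subtype.val hzero :)
      rw [show j (r' 0) = (w i₁ : L) / (η i₁ : L) by rw [eq_div_iff hi₁, h]]
      exact div_mem (w i₁).2 (hK0T _ (η i₁).2)
    -- differentiate
    let U : Submodule L V := Submodule.span L (Set.range fun i : Fin n => Δ (r' i.succ))
    have hΔ1 : Δ 1 = 0 := by
      have h := hΔ 1 1
      rw [mul_one, show j 1 = 1 from map_one j, one_smul] at h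
      exact left_eq_add.1 h
    have hΔpow : ∀ (g : 𝖱) (q : ℕ), Δ (g ^ q) = ((q : L) * j g ^ (q - 1)) • Δ g := by
      intro g q
      induction q with
      | zero => simp [hΔ1]
      | succ q ih =>
        rw [pow_succ, hΔ, ih, smul_smul, map_pow, ← add_smul]
        congr 1
        rcases Nat.eq_zero_or_pos q with rfl | hq
        · simp
        · obtain ⟨q', rfl⟩ : ∃ q', q = q' + 1 := ⟨q - 1, (Nat.sub_add_cancel hq).symm⟩
          simp only [Nat.add_sub_cancel]
          push_cast
          ring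
    have hΔp : ∀ g : 𝖱, Δ (g ^ p) = 0 := fun g => by rw [hΔpow, CharP.cast_eq_zero, zero_mul, zero_smul]
    have hmulU : ∀ g h, Δ g ∈ U → Δ h ∈ U → Δ (g * h) ∈ U := fun g h hg hh => by
      rw [hΔ]; exact add_mem (U.smul_mem _ hh) (U.smul_mem _ hg)
    have hpU : ∀ g : 𝖱, Δ (g ^ p) ∈ U := fun g => by rw [hΔp]; exact U.zero_mem
    have hpowU : ∀ g, Δ g ∈ U → ∀ q : ℕ, Δ (g ^ q) ∈ U := fun g hg q => by
      rw [hΔpow]; exact U.smul_mem _ hg
    let G : L → Prop := fun y => ∃ g h : 𝖱, j g ≠ 0 ∧ Δ h ∈ U ∧ y * j g ^ p = j h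
    have hG : G (j (r' 0)) := by
      generalize j (r' 0) = z at hzT ⊢
      induction hzT using Subfield.closure_induction with
      | mem y hy =>
        rcases hy with hy | ⟨i, rfl⟩
        · obtain ⟨w', hw', rfl⟩ := hy
          obtain ⟨a₁, b₁, rfl⟩ := (J2.mem_closure_range j).1 hw'
          by_cases hb : j b₁ = 0
          · exact ⟨1, 0, by simp, by rw [map_zero]; exact U.zero_mem, by
              simp [hb, frobenius_def, zero_pow hp.out.ne_zero]⟩
          · refine ⟨b₁, a₁ ^ p, hb, hpU _, ?_⟩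
            rw [frobenius_def, ← mul_pow, div_mul_cancel₀ _ hb, map_pow]
        · exact ⟨1, r' i.succ, by simp, Submodule.subset_span ⟨i, rfl⟩, by simp [others]⟩
      | one => exact ⟨1, 1, by simp, by rw [hΔ1]; exact U.zero_mem, by simp⟩
      | add y z _ _ h1 h2 =>
        obtain ⟨g1, h1, hg1, hh1, e1⟩ := h1
        obtain ⟨g2, h2, hg2, hh2, e2⟩ := h2
        refine ⟨g1 * g2, h1 * g2 ^ p + h2 * g1 ^ p, by rw [map_mul]; exact mul_ne_zero hg1 hg2,
          by rw [map_add]; exact add_mem (hmulU _ _ hh1 (hpU _)) (hmulU _ _ hh2 (hpU _)), ?_⟩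
        rw [map_add, map_mul, map_mul, map_mul, map_pow, map_pow, ← e1, ← e2]
        ring
      | neg y _ h1 =>
        obtain ⟨g1, h1, hg1, hh1, e1⟩ := h1
        exact ⟨g1, -h1, hg1, by rw [map_neg]; exact U.neg_mem hh1, by rw [neg_mul, e1, map_neg]⟩
      | inv y _ h1 =>
        obtain ⟨g1, h1, hg1, hh1, e1⟩ := h1
        by_cases hy : y = 0
        · exact ⟨1, 0, by simp, by rw [map_zero]; exact U.zero_mem, by simp [hy]⟩
        · obtain ⟨q, hq⟩ : ∃ q, p = q + 1 := ⟨p - 1, (Nat.sub_add_cancel hp.out.one_le).symm⟩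
          refine ⟨h1, g1 ^ p * h1 ^ q, by rw [← e1]; exact mul_ne_zero hy (pow_ne_zero _ hg1),
            hmulU _ _ (hpU _) (hpowU _ hh1 _), ?_⟩
          rw [map_mul, map_pow, map_pow, ← e1, hq, pow_succ (y * j g1 ^ (q + 1))]
          field_simp
      | mul y z _ _ h1 h2 =>
        obtain ⟨g1, h1, hg1, hh1, e1⟩ := h1
        obtain ⟨g2, h2, hg2, hh2, e2⟩ := h2
        refine ⟨g1 * g2, h1 * h2, by rw [map_mul]; exact mul_ne_zero hg1 hg2, hmulU _ _ hh1 hh2, ?_⟩
        rw [map_mul, map_mul, ← e1, ← e2]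
        ring
    obtain ⟨g, h, hg, hh, hgh⟩ := hG
    have heq : r' 0 * g ^ p = h := hinj (by rw [map_mul, map_pow, hgh])
    rw [← heq, hΔ, hΔp, smul_zero, zero_add, map_pow] at hh
    have h0U : Δ (r' 0) ∈ U := (Submodule.smul_mem_iff _ (pow_ne_zero _ hg)).1 hh
    obtain ⟨b, hb⟩ := (Submodule.mem_span_range_iff_exists_fun L).1 h0U
    refine Nat.find_min hex (show n < Nat.find hex by omega)
      ⟨fun i => a' 0 * b i + a' i.succ, fun i => r' i.succ, fun i => hr' _, ?_⟩
    rw [hxe', ← hb, Finset.smul_sum]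
    simp only [add_smul, Finset.sum_add_distrib, smul_smul]
  · -- some functional detects the first coefficient
    let bQ := Module.finBasis K0 Q
    let u' : Fin (Module.finrank K0 Q) → L := fun i => (bQ i : L)
    have hQspan : ∀ y ∈ Q, y ∈ Submodule.span K0 (Set.range u') := fun y hy => by
      refine (Submodule.mem_span_range_iff_exists_fun K0).2 ⟨fun i => bQ.repr ⟨y, hy⟩ i, ?_⟩
      have h := congrArg (fun z : Q => (z : L)) (bQ.sum_repr ⟨y, hy⟩)
      rw [AddSubmonoidClass.coe_finsetSum] at h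
      exact h
    obtain ⟨t, ht⟩ := J2.exists_notMem_span Ks hKanti K0 Q.toSubfield h0 hinter
      (fun c hc => Q.algebraMap_mem ⟨c, hc⟩) u' (fun i => (bQ i).2) (a := j (r' 0)) hz
    have hcast : ∀ y ∈ Q, y ∈ Submodule.span (Ks t) (Set.range u') := fun y hy => by
      obtain ⟨c, hc⟩ := (Submodule.mem_span_range_iff_exists_fun K0).1 (hQspan y hy)
      exact (Submodule.mem_span_range_iff_exists_fun (Ks t)).2 ⟨fun i => ⟨c i, h0 t (c i).2⟩, hc⟩
    have hQu : ∀ y ∈ Submodule.span K0 (Set.range u), y ∈ Q := fun y hy => by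
      obtain ⟨c, rfl⟩ := (Submodule.mem_span_range_iff_exists_fun K0).1 hy
      exact sum_mem fun i _ => mul_mem (Q.algebraMap_mem (c i))
        (IntermediateField.subset_adjoin K0 S0 (Or.inl ⟨i, rfl⟩))
    obtain ⟨W, hW⟩ := exists_subfield_span p (Ks t) u' (fun i l => hcast _ (mul_mem (bQ i).2 (bQ l).2))
      fun y => hcast _ (hQu _ (hspanP y))
    obtain ⟨η, hη0, hη1⟩ := exists_derivation_one p W (fun y => by
      rw [← SetLike.mem_coe, hW]; exact hcast _ (hQu _ (hspanP y))) (z := j (r' 0)) (by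
      rw [← SetLike.mem_coe, hW]; exact ht)
    obtain ⟨φ, hφ⟩ := hlift η
    have hKW : ∀ c ∈ Ks t, c ∈ W := fun c hc => by
      rw [← SetLike.mem_coe, hW, show c = (⟨c, hc⟩ : Ks t) • (1 : L) by rw [Subfield.smul_def, smul_eq_mul, mul_one]]
      exact Submodule.smul_mem _ _ (hcast _ (one_mem Q))
    have hφx : φ x = 0 := by
      have hle : Submodule.span L (Δ '' Set.range (J2.powEmb p d (F t))) ≤ LinearMap.ker φ := by
        refine Submodule.span_le.2 ?_
        rintro _ ⟨_, ⟨g, rfl⟩, rfl⟩
        show φ _ = 0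
        rw [hφ]
        exact hη0 _ (hKW _ (Subfield.subset_closure ⟨g, rfl⟩))
      exact hle (hx t)
    have hoth : ∀ i : Fin n, φ (Δ (r' i.succ)) = 0 := fun i => by
      rw [hφ]
      refine hη0 _ ?_
      rw [← SetLike.mem_coe, hW]
      exact hcast _ (IntermediateField.subset_adjoin K0 S0 (Or.inr ⟨i, rfl⟩))
    have ha0 : a' 0 = 0 := by
      rw [hxe', map_add, map_smul, map_sum, hφ, hη1, smul_eq_mul, mul_one] at hφx
      simpa [map_smul, hoth] using hφx
    refine Nat.find_min hex (show n < Nat.find hex by omega)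
      ⟨fun i => a' i.succ, fun i => r' i.succ, fun i => hr' _, ?_⟩
    rw [hxe', ha0, zero_smul, zero_add]

end GrothLib.NagataFS
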