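import Groth.Agent.Lib.NagataFS.Descent
import Groth.Agent.Lib.NagataFS.Clear
import Groth.Agent.Lib.CKaehler2.GeomFree3
import Groth.Agent.S2471

/-!
# Integral derivations dual to equations, positive characteristic
-/

set_option autoImplicit false
set_option linter.style.haveILetI false
universe u

open IsLocalRing
open scoped TensorProduct

namespace GrothLib.NagataFS

/-- Derivations of `k` vanishing on a generating system of differentials vanish. -/
theorem derivation_eq_zero_of_span {k M : Type u} [Field k] [AddCommGroup M] [Module k M]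
    (D : Derivation ℤ k M) {n : ℕ} (c : Fin n → k)
    (hc : ⊤ ≤ Submodule.span k (Set.range fun l => KaehlerDifferential.D ℤ k (c l))) (h : ∀ l, D (c l) = 0) (x : k) :
    D x = 0 := by
  rw [← D.liftKaehlerDifferential_comp_D x]
  have hle : Submodule.span k (Set.range fun l => KaehlerDifferential.D ℤ k (c l)) ≤
      LinearMap.ker D.liftKaehlerDifferential := Submodule.span_le.2 (by
    rintro _ ⟨l, rfl⟩
    exact (D.liftKaehlerDifferential_comp_D (c l)).trans (h l))
  exact LinearMap.mem_ker.1 (hle (hc trivial))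

/-- A finite basis of absolute differentials made of differentials. -/
theorem exists_D_basis (k : Type u) [Field k] [Module.Finite k (Ω[k⁄ℤ])] :
    ∃ (n : ℕ) (c : Fin n → k), LinearIndependent k (fun l => KaehlerDifferential.D ℤ k (c l)) ∧
      ⊤ ≤ Submodule.span k (Set.range fun l => KaehlerDifferential.D ℤ k (c l)) := by
  obtain ⟨b, hb, hspan, hli⟩ := exists_linearIndependent k (Set.range (KaehlerDifferential.D ℤ k))
  haveI : Finite b := hli.finite
  haveI := Fintype.ofFinite b
  choose c hc using fun x : b => hb x.2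
  let e : Fin (Fintype.card b) ≃ b := (Fintype.equivFin b).symm
  have he : (fun l => KaehlerDifferential.D ℤ k (c (e l))) = Subtype.val ∘ e := funext fun l => hc _
  refine ⟨Fintype.card b, fun l => c (e l), he ▸ hli.comp _ e.injective, ?_⟩
  rw [he, e.surjective.range_comp, Subtype.range_coe, hspan, KaehlerDifferential.span_range_derivation]

set_option maxHeartbeats 1000000 in
/-- The derivations into the residue field can be chosen to kill power series in `p`-th powers. -/
theorem exists_core (p : ℕ) [Fact p.Prime] {k K₀ A R κ : Type u} [Field k] [CharP k p] (hk : (frobenius k p).Finite)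
    [Field K₀] [CharP K₀ p] [CommRing A] [CommRing R] [Field κ] [CharP κ p] [Algebra k A] [Algebra k R] [Algebra A R]
    [IsScalarTower k A R] [Algebra A κ] [Algebra R κ] [IsScalarTower A R κ] [Algebra k κ] [IsScalarTower k R κ]
    [IsScalarTower k A κ]
    (hinjR : Function.Injective ((KaehlerDifferential.mapBaseChange ℤ k R).lTensor κ))
    {m : ℕ} (f : Fin m → A) (δ : Fin m → Derivation k R κ)
    (hδ : ∀ i j, δ i (algebraMap A R (f j)) = if i = j then 1 else 0) (d : ℕ)
    (φ₀ : MvPowerSeries (Fin d) K₀ →+* A) (hj : Function.Injective ((algebraMap A κ).comp φ₀))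
    [FiniteDimensional (Subfield.closure (Set.range ((algebraMap A κ).comp φ₀))) κ] :
    ∃ (F₁ : Subfield K₀) (E : Fin m → Derivation k A κ), FiniteDimensional F₁ K₀ ∧
      (∀ i g, E i (φ₀ (GrothLib.J2.powEmb p d F₁ g)) = 0) ∧ ∀ i j, E i (f j) = if i = j then 1 else 0 := by
  classical
  haveI := CKaehler2.finite_kaehler_int k p hk
  obtain ⟨n, cb, hcli, hcspan⟩ := exists_D_basis k
  -- the universal derivation with values in the fibre
  let D' : Derivation ℤ R (κ ⊗[R] Ω[R⁄ℤ]) := Derivation.mk'
    (AddMonoidHom.mk' (fun a => (1 : κ) ⊗ₜ[R] KaehlerDifferential.D ℤ R a)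
      (fun a b => by rw [map_add, TensorProduct.tmul_add])).toIntLinearMap fun a b => by
    show (1 : κ) ⊗ₜ[R] KaehlerDifferential.D ℤ R (a * b) =
      a • ((1 : κ) ⊗ₜ[R] KaehlerDifferential.D ℤ R b) + b • ((1 : κ) ⊗ₜ[R] KaehlerDifferential.D ℤ R a)
    rw [Derivation.leibniz, TensorProduct.tmul_add, TensorProduct.tmul_smul, TensorProduct.tmul_smul]
  have hlift : ∀ E : Derivation ℤ R κ, ∃ φ : κ ⊗[R] Ω[R⁄ℤ] →ₗ[κ] κ, ∀ a, φ (D' a) = E a := fun E =>
    ⟨E.liftKaehlerDifferential.liftBaseChange κ, fun a => by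
      show E.liftKaehlerDifferential.liftBaseChange κ ((1 : κ) ⊗ₜ KaehlerDifferential.D ℤ R a) = E a
      rw [LinearMap.liftBaseChange_tmul, one_smul, Derivation.liftKaehlerDifferential_comp_D]⟩
  let h : Fin n ⊕ Fin m → κ ⊗[R] Ω[R⁄ℤ] :=
    Sum.elim (fun l => D' (algebraMap k R (cb l))) (fun j => D' (algebraMap A R (f j)))
  have hh : LinearIndependent κ h := by
    rw [Fintype.linearIndependent_iff]
    intro g hg
    have hf0 : ∀ i, g (Sum.inr i) = 0 := by
      intro i
      obtain ⟨φ, hφ⟩ := hlift ((δ i).restrictScalars ℤ)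
      have h1 := congrArg φ hg
      rw [map_zero, map_sum, Fintype.sum_sum_type] at h1
      simp only [map_smul, h, Sum.elim_inl, Sum.elim_inr, hφ, Derivation.restrictScalars_apply,
        Derivation.map_algebraMap, hδ, smul_zero, Finset.sum_const_zero, zero_add, smul_eq_mul, mul_ite, mul_one,
        mul_zero, Finset.sum_ite_eq, Finset.mem_univ, if_true] at h1
      exact h1
    rw [Fintype.sum_sum_type] at hg
    simp only [hf0, zero_smul, Finset.sum_const_zero, add_zero, h, Sum.elim_inl] at hg
    let z : κ ⊗[R] (R ⊗[k] Ω[k⁄ℤ]) := ∑ l, g (Sum.inl l) ⊗ₜ[R] ((1 : R) ⊗ₜ[k] KaehlerDifferential.D ℤ k (cb l))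
    have hz : z = 0 := hinjR (by
      rw [map_zero]
      refine Eq.trans ?_ hg
      rw [map_sum]
      refine Finset.sum_congr rfl fun l _ => ?_
      rw [LinearMap.lTensor_tmul]
      rw [KaehlerDifferential.mapBaseChange_tmul, one_smul, KaehlerDifferential.map_D]
      show _ = g (Sum.inl l) • ((1 : κ) ⊗ₜ[R] KaehlerDifferential.D ℤ R (algebraMap k R (cb l)))
      rw [TensorProduct.smul_tmul', smul_eq_mul, mul_one])
    have h2 := congrArg (TensorProduct.AlgebraTensorModule.cancelBaseChange k R R κ (Ω[k⁄ℤ])) hz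
    rw [map_zero, map_sum] at h2
    simp only [TensorProduct.AlgebraTensorModule.cancelBaseChange_tmul, one_smul] at h2
    let bk : Module.Basis (Fin n) k (Ω[k⁄ℤ]) := Module.Basis.mk hcli hcspan
    have h3 : ∑ l, g (Sum.inl l) • (bk.baseChange κ) l = 0 := by
      rw [← h2]
      refine Finset.sum_congr rfl fun l _ => ?_
      rw [Module.Basis.baseChange_apply, Module.Basis.mk_apply, TensorProduct.smul_tmul', smul_eq_mul, mul_one]
    rintro (l | j)
    · exact Fintype.linearIndependent_iff.1 (bk.baseChange κ).linearIndependent _ h3 l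
    · exact hf0 j
  let j : MvPowerSeries (Fin d) K₀ →+* κ := (algebraMap A κ).comp φ₀
  obtain ⟨ι, F, hanti, hFp, hFfin, hFinter⟩ := GrothLib.J2.exists_subfield_family p K₀
  let ψ : MvPowerSeries (Fin d) K₀ →+* R := (algebraMap A R).comp φ₀
  have hjψ : ∀ r, algebraMap R κ (ψ r) = j r := fun r => (IsScalarTower.algebraMap_apply A R κ _).symm
  let Δ : MvPowerSeries (Fin d) K₀ →+ κ ⊗[R] Ω[R⁄ℤ] := D'.toLinearMap.toAddMonoidHom.comp ψ.toAddMonoidHom
  let W : Finset ι → Submodule κ (κ ⊗[R] Ω[R⁄ℤ]) := fun s =>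
    Submodule.span κ (Δ '' Set.range (GrothLib.J2.powEmb p d (F s)))
  have hWanti : ∀ s t, s ⊆ t → W t ≤ W s := by
    intro s t hst
    refine Submodule.span_mono (Set.image_mono ?_)
    rintro _ ⟨g, rfl⟩
    have h1 := (GrothLib.J2.mem_range_powEmb p d (F t) _).1 ⟨g, rfl⟩
    exact (GrothLib.J2.mem_range_powEmb p d (F s) _).2 ⟨fun n => hanti s t hst (h1.1 n), h1.2⟩
  have hinterW : ∀ x, (∀ s, x ∈ W s) → x = 0 := by
    intro x hx
    refine eq_zero_of_mem_all p d F hanti hFp hFfin hFinter j hj Δ (fun a b => ?_) (fun η => ?_) x hx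
    · show D' (ψ (a * b)) = j a • D' (ψ b) + j b • D' (ψ a)
      rw [map_mul, Derivation.leibniz, ← hjψ, ← hjψ, algebraMap_smul, algebraMap_smul]
    · obtain ⟨φ, hφ⟩ := hlift (η.compAlgebraMap R)
      refine ⟨φ, fun r => ?_⟩
      show φ (D' (ψ r)) = η (j r)
      rw [hφ, ← hjψ]
      rfl
  -- a member of the family meeting the span trivially
  let V := Submodule.span κ (Set.range h)
  haveI : FiniteDimensional κ V := FiniteDimensional.span_of_finite κ (Set.finite_range h)
  obtain ⟨s, hs⟩ : ∃ s, Disjoint V (W s) := by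
    have hex : ∃ e s, Module.finrank κ (V ⊓ W s : Submodule κ _) = e := ⟨_, ∅, rfl⟩
    obtain ⟨s, hs⟩ := Nat.find_spec hex
    refine ⟨s, Submodule.disjoint_def.2 fun x hxV hxW => hinterW x fun t => ?_⟩
    have hle : V ⊓ W (s ∪ t) ≤ V ⊓ W s := inf_le_inf_left _ (hWanti _ _ Finset.subset_union_left)
    haveI : FiniteDimensional κ (V ⊓ W s : Submodule κ _) := Submodule.finiteDimensional_of_le inf_le_left
    have heq : V ⊓ W (s ∪ t) = V ⊓ W s := Submodule.eq_of_le_of_finrank_le hle (by
      rw [hs]
      exact Nat.find_min' hex ⟨_, rfl⟩)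
    exact hWanti _ _ Finset.subset_union_right ((heq.ge (Submodule.mem_inf.2 ⟨hxV, hxW⟩)).2)
  have hq : LinearIndependent κ ((W s).mkQ ∘ h) := hh.map (by rwa [Submodule.ker_mkQ])
  obtain ⟨lam, hlam⟩ := LinearMap.exists_leftInverse_of_injective (Fintype.linearCombination κ ((W s).mkQ ∘ h))
    (LinearMap.ker_eq_bot.2 hq.fintypeLinearCombination_injective)
  let φ : Fin m → (κ ⊗[R] Ω[R⁄ℤ] →ₗ[κ] κ) := fun i =>
    (LinearMap.proj (Sum.inr i)).comp (lam.comp (W s).mkQ)
  have hφh : ∀ i x, φ i (h x) = (Pi.single x 1 : Fin n ⊕ Fin m → κ) (Sum.inr i) := fun i x => by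
    have h1 := LinearMap.congr_fun hlam (Pi.single x 1)
    rw [LinearMap.comp_apply, Fintype.linearCombination_apply_single, one_smul] at h1
    exact congrFun h1 _
  have hφW : ∀ i, ∀ x ∈ W s, φ i x = 0 := fun i x hx => by
    show lam ((W s).mkQ x) (Sum.inr i) = 0
    rw [show (W s).mkQ x = 0 from (Submodule.Quotient.mk_eq_zero _).2 hx, map_zero]
    rfl
  -- the derivations on `A`
  let E : Fin m → Derivation ℤ A κ := fun i =>
    (((φ i).restrictScalars R).compDer D').compAlgebraMap A
  have hE : ∀ i a, E i a = φ i (D' (algebraMap A R a)) := fun i a => rfl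
  have hEk : ∀ i (x : k), E i (algebraMap k A x) = 0 := by
    intro i
    refine derivation_eq_zero_of_span ((E i).compAlgebraMap k) cb hcspan fun l => ?_
    show E i (algebraMap k A (cb l)) = 0
    rw [hE, ← IsScalarTower.algebraMap_apply k A R]
    exact (hφh i (Sum.inl l)).trans (Pi.single_eq_of_ne (by simp) _)
  let Ek : Fin m → Derivation k A κ := fun i => Derivation.mk'
    { toFun := E i
      map_add' := fun a b => map_add _ a b
      map_smul' := fun c a => by
        rw [Algebra.smul_def, Derivation.leibniz, hEk, smul_zero, add_zero, RingHom.id_apply, algebraMap_smul] }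
    fun a b => (E i).leibniz a b
  refine ⟨F s, Ek, hFfin s, fun i g => hφW i _ (Submodule.subset_span ⟨_, ⟨g, rfl⟩, rfl⟩), fun i j' => ?_⟩
  rw [show Ek i (f j') = φ i (h (Sum.inr j')) from rfl, hφh]
  by_cases hij : i = j'
  · subst hij
    rw [Pi.single_eq_same, if_pos rfl]
  · rw [Pi.single_eq_of_ne (by simpa using hij), if_neg hij]

/-- Derivations into the residue field dual to equations become integral, in characteristic `p`. -/
theorem exists_detect_char (p : ℕ) [Fact p.Prime] {k K₀ A : Type u} [Field k] [CharP k p]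
    (hk : (frobenius k p).Finite) [Field K₀] [CommRing A] [IsLocalRing A] [IsNoetherianRing A]
    [IsAdicComplete (maximalIdeal A) A] [Algebra k K₀] [Algebra k A] [Algebra K₀ A] [IsScalarTower k K₀ A]
    [Module.Finite K₀ (ResidueField A)] (P : Ideal A) [P.IsPrime]
    (hR : CAlgX.IsAdicFormallySmooth k (Localization.AtPrime P) (maximalIdeal (Localization.AtPrime P)))
    {m : ℕ} (f : Fin m → A) (δ : Fin m → Derivation k (Localization.AtPrime P) P.ResidueField)
    (hδ : ∀ i j, δ i (algebraMap A _ (f j)) = if i = j then 1 else 0) :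
    ∃ (c : A) (Db : Fin m → Derivation k A (A ⧸ P)), c ∉ P ∧
      ∀ i j, Db i (f j) = if i = j then Ideal.Quotient.mk P c else 0 := by
  classical
  let κ := P.ResidueField
  haveI : IsNoetherianRing (Localization.AtPrime P) := IsLocalization.isNoetherianRing P.primeCompl _ inferInstance
  have hinjR := ((Groth.Agent.S2471.result (k := k) (A := Localization.AtPrime P)).1 hR).2
  haveI : CharP K₀ p := charP_of_injective_algebraMap (algebraMap k K₀).injective p
  haveI : CharP κ p := charP_of_injective_algebraMap (algebraMap k κ).injective p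
  haveI : IsLocalRing (A ⧸ P) := IsLocalRing.of_surjective' (Ideal.Quotient.mk P) Ideal.Quotient.mk_surjective
  obtain ⟨d, hd⟩ := CKaehler2.exists_dim (A ⧸ P)
  obtain ⟨alg, tow, -, hfin, hinj⟩ := CKaehler2.exists_lift_presentation K₀ A P hd
  letI := alg
  haveI := tow
  haveI := hfin
  let S := MvPowerSeries (Fin d) K₀
  letI : Algebra (MvPowerSeries (Fin d) K₀) κ := ((algebraMap A κ).comp (algebraMap S A)).toAlgebra
  haveI : IsScalarTower (MvPowerSeries (Fin d) K₀) (A ⧸ P) κ := IsScalarTower.of_algebraMap_eq fun r => by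
    show algebraMap A κ (algebraMap S A r) = algebraMap (A ⧸ P) κ (Ideal.Quotient.mk P (algebraMap S A r))
    exact IsScalarTower.algebraMap_apply A (A ⧸ P) κ _
  let j : MvPowerSeries (Fin d) K₀ →+* κ := algebraMap _ κ
  have hj : Function.Injective j := by
    show Function.Injective (algebraMap (MvPowerSeries (Fin d) K₀) κ)
    rw [IsScalarTower.algebraMap_eq (MvPowerSeries (Fin d) K₀) (A ⧸ P) κ]
    exact (IsFractionRing.injective (A ⧸ P) κ).comp hinj
  haveI : FiniteDimensional (Subfield.closure (Set.range ((algebraMap A κ).comp (algebraMap S A)))) κ :=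
    finiteDimensional_closure d (S := A ⧸ P) (L := κ)
  obtain ⟨F₁, E, hF₁, hEρ, hEf⟩ :=
    exists_core p (R := Localization.AtPrime P) (κ := κ) hk hinjR f δ hδ d (algebraMap S A) hj
  haveI := hF₁
  have hfinρ : ((Ideal.Quotient.mk P).comp ((algebraMap S A).comp (GrothLib.J2.powEmb p d F₁))).Finite := by
    have h1 : (algebraMap (MvPowerSeries (Fin d) K₀) (A ⧸ P)).Finite := RingHom.finite_algebraMap.2 hfin
    exact h1.comp (GrothLib.J2.finite_powEmb p d F₁)
  obtain ⟨c, Db, hc, hDb⟩ := exists_clear P _ hfinρ E hEρ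
  refine ⟨c, Db, hc, fun i j' => IsFractionRing.injective (A ⧸ P) κ ?_⟩
  rw [hDb, hEf]
  by_cases hij : i = j'
  · rw [if_pos hij, if_pos hij, mul_one, ← Ideal.Quotient.algebraMap_eq, ← IsScalarTower.algebraMap_apply]
  · rw [if_neg hij, if_neg hij, mul_zero, map_zero]

end GrothLib.NagataFS
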