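import Groth.Agent.Lib.NagataFS.Suff
import Groth.Agent.Lib.NagataFS.Clear
import Groth.Agent.Lib.CKaehler2.GeomFree3
import Mathlib.RingTheory.Etale.Field

/-!
# Integral derivations dual to equations, characteristic zero
-/

set_option autoImplicit false
set_option linter.style.haveILetI false
universe u

open IsLocalRing

namespace GrothLib.NagataFS

/-- Over a subring with algebraic fraction field extension, derivations can be moved to kill the subring. -/
theorem exists_kill {k S A κ : Type u} [Field k] [CharZero k] [CommRing S] [IsDomain S] [CommRing A] [Field κ]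
    [Algebra k S] [Algebra k A] [Algebra k κ] [Algebra S A] [Algebra A κ] [Algebra S κ] [IsScalarTower k S A]
    [IsScalarTower k S κ] [IsScalarTower S A κ] [IsScalarTower k A κ] (hj : Function.Injective (algebraMap S κ))
    (hgen : ∀ z : κ, ∃ x y : κ, IsIntegral S x ∧ IsIntegral S y ∧ z = x / y) (δ : Derivation k A κ) :
    ∃ δ' : Derivation k A κ, (∀ r, δ' (algebraMap S A r) = 0) ∧ ∀ a, algebraMap A κ a = 0 → δ' a = δ a := by
  haveI : FaithfulSMul S κ := (faithfulSMul_iff_algebraMap_injective _ κ).mpr hj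
  let M := FractionRing S
  letI : Algebra M κ := FractionRing.liftAlgebra S κ
  haveI : IsScalarTower S M κ := FractionRing.isScalarTower_liftAlgebra _ κ
  haveI : CharZero S := charZero_of_injective_algebraMap (algebraMap k S).injective
  haveI : CharZero M := charZero_of_injective_algebraMap (IsFractionRing.injective S M)
  haveI : Algebra.IsAlgebraic M κ := ⟨fun z => by
    obtain ⟨x, y, hx, hy, rfl⟩ := hgen z
    rw [div_eq_mul_inv]
    exact (hx.tower_top.mul hy.tower_top.inv).isAlgebraic⟩
  haveI : Algebra.IsSeparable M κ := inferInstance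
  haveI : Algebra.FormallyEtale M κ := Algebra.FormallyEtale.of_isSeparable M κ
  haveI : Algebra.FormallySmooth S M := Algebra.FormallySmooth.of_isLocalization (nonZeroDivisors S)
  haveI : Algebra.FormallySmooth S κ := Algebra.FormallySmooth.comp _ M κ
  obtain ⟨η, hη⟩ := exists_extend (δ.compAlgebraMap S)
  refine ⟨δ - η.compAlgebraMap A, fun r => ?_, fun a ha => ?_⟩
  · show δ (algebraMap S A r) - η (algebraMap A κ (algebraMap S A r)) = 0
    rw [← IsScalarTower.algebraMap_apply S A κ, hη]
    exact sub_self _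
  · show δ a - η (algebraMap A κ a) = δ a
    rw [ha, map_zero, sub_zero]

/-- Derivations into the residue field dual to equations become integral, in characteristic zero. -/
theorem exists_detect_zero {k K₀ A : Type u} [Field k] [CharZero k] [Field K₀] [CommRing A] [IsLocalRing A]
    [IsNoetherianRing A] [IsAdicComplete (maximalIdeal A) A] [Algebra k K₀] [Algebra k A] [Algebra K₀ A]
    [IsScalarTower k K₀ A] [Module.Finite K₀ (ResidueField A)] (P : Ideal A) [P.IsPrime]
    {m : ℕ} (f : Fin m → A) (hf : ∀ j, f j ∈ P) (δ : Fin m → Derivation k A P.ResidueField)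
    (hδ : ∀ i j, δ i (f j) = if i = j then 1 else 0) :
    ∃ (c : A) (Db : Fin m → Derivation k A (A ⧸ P)), c ∉ P ∧
      ∀ i j, Db i (f j) = if i = j then Ideal.Quotient.mk P c else 0 := by
  classical
  let κ := P.ResidueField
  haveI : IsLocalRing (A ⧸ P) := IsLocalRing.of_surjective' (Ideal.Quotient.mk P) Ideal.Quotient.mk_surjective
  obtain ⟨d, hd⟩ := CKaehler2.exists_dim (A ⧸ P)
  obtain ⟨alg, tow, -, hfin, hinj⟩ := CKaehler2.exists_lift_presentation K₀ A P hd
  letI := alg
  haveI := tow
  haveI := hfin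
  let S := MvPowerSeries (Fin d) K₀
  haveI : IsScalarTower k K₀ (MvPowerSeries (Fin d) K₀) := inferInstance
  haveI : IsScalarTower k (MvPowerSeries (Fin d) K₀) A := IsScalarTower.of_algebraMap_eq fun c => by
    rw [IsScalarTower.algebraMap_apply k K₀ (MvPowerSeries (Fin d) K₀), ← IsScalarTower.algebraMap_apply K₀ (MvPowerSeries (Fin d) K₀) A,
      ← IsScalarTower.algebraMap_apply k K₀ A]
  letI : Algebra (MvPowerSeries (Fin d) K₀) κ := ((algebraMap A κ).comp (algebraMap S A)).toAlgebra
  haveI : IsScalarTower (MvPowerSeries (Fin d) K₀) A κ := IsScalarTower.of_algebraMap_eq fun _ => rfl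
  haveI : IsScalarTower (MvPowerSeries (Fin d) K₀) (A ⧸ P) κ := IsScalarTower.of_algebraMap_eq fun r => by
    show algebraMap A κ (algebraMap S A r) = algebraMap (A ⧸ P) κ (Ideal.Quotient.mk P (algebraMap S A r))
    exact IsScalarTower.algebraMap_apply A (A ⧸ P) κ _
  haveI : IsScalarTower k (MvPowerSeries (Fin d) K₀) κ := IsScalarTower.of_algebraMap_eq fun c => by
    show algebraMap k κ c = algebraMap A κ (algebraMap S A (algebraMap k S c))
    rw [← IsScalarTower.algebraMap_apply k (MvPowerSeries (Fin d) K₀) A, ← IsScalarTower.algebraMap_apply k A κ]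
  have hj : Function.Injective (algebraMap (MvPowerSeries (Fin d) K₀) κ) := by
    rw [IsScalarTower.algebraMap_eq (MvPowerSeries (Fin d) K₀) (A ⧸ P) κ]
    exact (IsFractionRing.injective (A ⧸ P) κ).comp hinj
  haveI : IsDomain (MvPowerSeries (Fin d) K₀) := NoZeroDivisors.to_isDomain _
  have hgen : ∀ z : κ, ∃ x y : κ, IsIntegral (MvPowerSeries (Fin d) K₀) x ∧
      IsIntegral (MvPowerSeries (Fin d) K₀) y ∧ z = x / y := fun z => by
    obtain ⟨x, y, -, rfl⟩ := IsFractionRing.div_surjective (A ⧸ P) (K := κ) z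
    exact ⟨_, _, IsIntegral.algebraMap (A := A ⧸ P) (B := κ) (Algebra.IsIntegral.isIntegral (R := MvPowerSeries (Fin d) K₀) x),
      IsIntegral.algebraMap (A := A ⧸ P) (B := κ) (Algebra.IsIntegral.isIntegral (R := MvPowerSeries (Fin d) K₀) y), rfl⟩
  choose δ' hkill hsame using fun i => exists_kill hj hgen (δ i)
  obtain ⟨c, Db, hc, hDb⟩ := exists_clear P (algebraMap S A) (RingHom.finite_algebraMap.2 hfin) δ' hkill
  refine ⟨c, Db, hc, fun i j => IsFractionRing.injective (A ⧸ P) κ ?_⟩
  rw [hDb, hsame i _ ((Ideal.algebraMap_residueField_eq_zero).2 (hf j)), hδ]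
  by_cases hij : i = j
  · rw [if_pos hij, if_pos hij, mul_one, ← Ideal.Quotient.algebraMap_eq, ← IsScalarTower.algebraMap_apply]
  · rw [if_neg hij, if_neg hij, mul_zero, map_zero]

end GrothLib.NagataFS
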