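import Groth.Prelude
import Mathlib.Algebra.TrivSqZeroExt.Basic
import Mathlib.RingTheory.Filtration
import Mathlib.RingTheory.AdicCompletion.Basic

/-!
# Lifting derivations along a formally smooth complete local ring
-/

set_option autoImplicit false
universe u

open IsLocalRing TrivSqZeroExt

namespace GrothLib.NagataFS

/-- A derivation modulo an ideal lowers orders by one. -/
theorem derivation_quot_pow {k A : Type u} [CommRing k] [CommRing A] [Algebra k A] {J : Ideal A}
    (D : Derivation k A (A ⧸ J)) (M : Ideal A) :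
    ∀ (n : ℕ) {a : A}, a ∈ M ^ (n + 1) → D a ∈ (M ^ n).map (Ideal.Quotient.mk J) := by
  intro n
  induction n with
  | zero => intro a _; simp [Ideal.map_top]
  | succ n ih =>
    intro a ha
    rw [pow_succ] at ha
    refine Submodule.mul_induction_on ha (fun x hx y hy => ?_) fun x y hx hy => by rw [map_add]; exact add_mem hx hy
    rw [Derivation.leibniz, Algebra.smul_def, Algebra.smul_def, Ideal.Quotient.algebraMap_eq]
    refine add_mem (Ideal.mul_mem_right _ _ (Ideal.mem_map_of_mem _ hx)) ?_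
    have h := Ideal.mul_mem_mul (Ideal.mem_map_of_mem (Ideal.Quotient.mk J) hy) (ih hx)
    rwa [← Ideal.map_mul, ← pow_succ'] at h

/-- Derivations into quotients lift along formally smooth algebras. -/
theorem exists_lift_quot {k A : Type u} [CommRing k] [CommRing A] [Algebra k A] (M : Ideal A)
    (hA : CAlgX.IsAdicFormallySmooth k A M) (I J' : Ideal A) (hIJ : I ≤ J') (N : ℕ) (hN : M ^ N ≤ I)
    (e : Derivation k A (A ⧸ J')) :
    ∃ D : Derivation k A (A ⧸ I), ∀ a, Ideal.Quotient.factor hIJ (D a) = e a := by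
  let φ := Ideal.Quotient.factor hIJ
  have hφs : Function.Surjective φ := Ideal.Quotient.factor_surjective hIJ
  choose r hr using fun a => hφs (e a)
  have hφmk : ∀ a, φ (Ideal.Quotient.mk I a) = Ideal.Quotient.mk J' a := fun a => rfl
  let C := TrivSqZeroExt (A ⧸ I) (A ⧸ I)
  let J : Ideal (TrivSqZeroExt (A ⧸ I) (A ⧸ I)) :=
    { carrier := {x | x.fst = 0 ∧ φ x.snd = 0}
      zero_mem' := by simp
      add_mem' := fun {x y} hx hy => by simp [hx.1, hy.1, hx.2, hy.2]
      smul_mem' := fun c x hx => by simp [fst_mul, snd_mul, hx.1, hx.2] }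
  have hJ : ∀ x : TrivSqZeroExt (A ⧸ I) (A ⧸ I), x ∈ J ↔ x.fst = 0 ∧ φ x.snd = 0 := fun x => Iff.rfl
  have hsq : J ^ 2 = ⊥ := by
    rw [pow_two, eq_bot_iff, Ideal.mul_le]
    intro x hx y hy
    rw [Ideal.mem_bot]
    refine TrivSqZeroExt.ext ?_ ?_
    · simp [fst_mul, ((hJ x).1 hx).1]
    · simp [snd_mul, ((hJ x).1 hx).1, ((hJ y).1 hy).1]
  let t : A → TrivSqZeroExt (A ⧸ I) (A ⧸ I) := fun a => inl (Ideal.Quotient.mk I a) + inr (r a)
  have ht1 : ∀ a, (t a).fst = Ideal.Quotient.mk I a := fun a => by simp [t]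
  have ht2 : ∀ a, φ (t a).snd = e a := fun a => by simp [t, hr]
  have heq : ∀ (x : TrivSqZeroExt (A ⧸ I) (A ⧸ I)) (a : A), x.fst = Ideal.Quotient.mk I a → φ x.snd = e a →
      Ideal.Quotient.mk J x = Ideal.Quotient.mk J (t a) := fun x a h1 h2 => by
    rw [Ideal.Quotient.eq, hJ]
    exact ⟨by simp [fst_sub, h1, ht1], by simp [snd_sub, map_sub, h2, ht2]⟩
  let ψ : A →ₐ[k] TrivSqZeroExt (A ⧸ I) (A ⧸ I) ⧸ J :=
    { toFun := fun a => Ideal.Quotient.mk J (t a)
      map_one' := by
        rw [← heq 1 1 (by simp) (by simp), map_one]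
      map_zero' := by
        rw [← heq 0 0 (by simp) (by simp), map_zero]
      map_add' := fun a b => by
        rw [← map_add, ← heq (t a + t b) (a + b) (by simp [ht1]) (by simp [ht2])]
      map_mul' := fun a b => by
        rw [← map_mul, ← heq (t a * t b) (a * b) (by simp [fst_mul, ht1]) ?_]
        rw [snd_mul, map_add, smul_eq_mul, op_smul_eq_smul, smul_eq_mul, map_mul, map_mul, ht1, ht1, hφmk, hφmk, ht2,
          ht2, Derivation.leibniz, Algebra.smul_def, Algebra.smul_def]
        rfl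
      commutes' := fun c => by
        rw [← heq (inl (Ideal.Quotient.mk I (algebraMap k A c))) (algebraMap k A c) (fst_inl _ _)
          (by rw [snd_inl, map_zero, Derivation.map_algebraMap])]
        rfl }
  have hψ : ∃ n : ℕ, ∀ a ∈ M ^ n, ψ a = 0 := by
    refine ⟨N + 1, fun a ha => ?_⟩
    show Ideal.Quotient.mk J (t a) = 0
    rw [Ideal.Quotient.eq_zero_iff_mem, hJ, ht1, ht2]
    refine ⟨Ideal.Quotient.eq_zero_iff_mem.2 (hN (Ideal.pow_le_pow_right (Nat.le_succ N) ha)), ?_⟩
    have h := derivation_quot_pow e M N ha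
    rwa [(Ideal.map_eq_bot_iff_le_ker _).2 ((hN.trans hIJ).trans (le_of_eq Ideal.mk_ker.symm)), Ideal.mem_bot] at h
  obtain ⟨χ, hχ⟩ := hA _ J hsq ψ hψ
  have hmk : ∀ a, (χ a).fst = Ideal.Quotient.mk I a ∧ φ (χ a).snd = e a := fun a => by
    have h : Ideal.Quotient.mk J (χ a) = Ideal.Quotient.mk J (t a) := AlgHom.congr_fun hχ a
    rw [Ideal.Quotient.eq, hJ, fst_sub, snd_sub, map_sub, sub_eq_zero, sub_eq_zero, ht1, ht2] at h
    exact h
  let L : A →ₗ[k] A ⧸ I :=
    { toFun := fun a => (χ a).snd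
      map_add' := fun a b => by simp
      map_smul' := fun c a => by simp }
  refine ⟨Derivation.mk' L fun a b => ?_, fun a => (hmk a).2⟩
  show (χ (a * b)).snd = a • (χ b).snd + b • (χ a).snd
  rw [map_mul, snd_mul, (hmk a).1, (hmk b).1, op_smul_eq_smul]
  rfl

/-- On a complete formally smooth Noetherian local ring derivations modulo an ideal lift. -/
theorem exists_lift_derivation {k A : Type u} [CommRing k] [CommRing A] [IsLocalRing A] [IsNoetherianRing A]
    [Algebra k A] [IsAdicComplete (maximalIdeal A) A]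
    (hA : CAlgX.IsAdicFormallySmooth k A (maximalIdeal A)) (P : Ideal A) (Db : Derivation k A (A ⧸ P)) :
    ∃ D : Derivation k A A, ∀ a, Ideal.Quotient.mk P (D a) = Db a := by
  let m := maximalIdeal A
  let Good : (n : ℕ) → Derivation k A (A ⧸ m ^ n) → Prop := fun n D => ∀ a,
    Ideal.Quotient.factor (le_sup_right : m ^ n ≤ P ⊔ m ^ n) (D a) =
      Ideal.Quotient.factor (le_sup_left : P ≤ P ⊔ m ^ n) (Db a)
  have hstep : ∀ (n : ℕ) (D : Derivation k A (A ⧸ m ^ n)), Good n D →
      ∃ D' : Derivation k A (A ⧸ m ^ (n + 1)), Good (n + 1) D' ∧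
        ∀ a, Ideal.Quotient.factor (Ideal.pow_le_pow_right (Nat.le_succ n) : m ^ (n + 1) ≤ m ^ n) (D' a) = D a := by
    intro n D hD
    let J' := m ^ n ⊓ (P ⊔ m ^ (n + 1))
    let p₁ := Ideal.Quotient.factor (inf_le_left : J' ≤ m ^ n)
    let p₂ := Ideal.Quotient.factor (inf_le_right : J' ≤ P ⊔ m ^ (n + 1))
    let d₂ : A → A ⧸ (P ⊔ m ^ (n + 1)) := fun a => Ideal.Quotient.factor le_sup_left (Db a)
    have hinj : ∀ u v : A ⧸ J', p₁ u = p₁ v → p₂ u = p₂ v → u = v := by
      intro u v h1 h2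
      obtain ⟨u, rfl⟩ := Ideal.Quotient.mk_surjective u
      obtain ⟨v, rfl⟩ := Ideal.Quotient.mk_surjective v
      rw [Ideal.Quotient.eq]
      exact ⟨Ideal.Quotient.eq.1 h1, Ideal.Quotient.eq.1 h2⟩
    have hex : ∀ a, ∃ u : A ⧸ J', p₁ u = D a ∧ p₂ u = d₂ a := by
      intro a
      obtain ⟨x, hx⟩ := Ideal.Quotient.mk_surjective (D a)
      obtain ⟨y, hy⟩ := Ideal.Quotient.mk_surjective (Db a)
      have h := hD a
      rw [← hx, ← hy] at h
      obtain ⟨t, ht, s, hs, hts⟩ := Submodule.mem_sup.1 (Ideal.Quotient.eq.1 h)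
      refine ⟨Ideal.Quotient.mk J' (x - s), ?_, ?_⟩
      · rw [← hx]
        exact Ideal.Quotient.eq.2 (by rw [sub_sub_cancel_left]; exact neg_mem hs)
      · show _ = Ideal.Quotient.factor le_sup_left (Db a)
        rw [← hy]
        exact Ideal.Quotient.eq.2 (Submodule.mem_sup_left (by
          rw [show x - s - y = t by linear_combination -hts]; exact ht))
    choose w hw1 hw2 using hex
    let L : A →ₗ[k] A ⧸ J' :=
      { toFun := w
        map_add' := fun a b => hinj _ _ (by rw [map_add, hw1, hw1, hw1, map_add])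
          (by rw [map_add, hw2, hw2, hw2]; simp [d₂])
        map_smul' := fun c a => hinj _ _
          (by rw [RingHom.id_apply, hw1, Derivation.map_smul, ← hw1 a, Algebra.smul_def c (w a), map_mul, Algebra.smul_def]; rfl)
          (by rw [RingHom.id_apply, Algebra.smul_def (c : k) (w a), map_mul, hw2, hw2]
              simp only [d₂, Derivation.map_smul]
              rw [Algebra.smul_def c (Db a), map_mul]; rfl) }
    let e : Derivation k A (A ⧸ J') := Derivation.mk' L fun a b => hinj _ _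
      (by show p₁ (w (a * b)) = p₁ (a • w b + b • w a)
          rw [Algebra.smul_def, Algebra.smul_def, map_add, map_mul, map_mul, hw1, hw1, hw1, Derivation.leibniz,
            Algebra.smul_def, Algebra.smul_def]; rfl)
      (by show p₂ (w (a * b)) = p₂ (a • w b + b • w a)
          rw [Algebra.smul_def, Algebra.smul_def, map_add, map_mul, map_mul, hw2, hw2, hw2]
          simp only [d₂, Derivation.leibniz]
          rw [Algebra.smul_def, Algebra.smul_def, map_add, map_mul, map_mul]; rfl)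
    obtain ⟨D', hD'⟩ := exists_lift_quot m hA (m ^ (n + 1)) J'
      (le_inf (Ideal.pow_le_pow_right (Nat.le_succ n)) le_sup_right) (n + 1) le_rfl e
    refine ⟨D', fun a => ?_, fun a => ?_⟩
    · obtain ⟨z, hz⟩ := Ideal.Quotient.mk_surjective (D' a)
      have h1 := hD' a
      rw [← hz] at h1 ⊢
      exact (congrArg p₂ h1).trans (hw2 a)
    · obtain ⟨z, hz⟩ := Ideal.Quotient.mk_surjective (D' a)
      have h1 := hD' a
      rw [← hz] at h1 ⊢
      exact (congrArg p₁ h1).trans (hw1 a)
  have hbase : Good 0 0 := fun a => by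
    haveI : Subsingleton (A ⧸ P ⊔ m ^ 0) := Ideal.Quotient.subsingleton_iff.2 (by simp)
    exact Subsingleton.elim _ _
  choose nxt hgood hcompat using hstep
  let seq : (n : ℕ) → { D : Derivation k A (A ⧸ m ^ n) // Good n D } := fun n =>
    Nat.rec ⟨0, hbase⟩ (fun i Di => ⟨nxt i Di.1 Di.2, hgood i Di.1 Di.2⟩) n
  have hseq : ∀ n a, Ideal.Quotient.factor (Ideal.pow_le_pow_right (Nat.le_succ n) : m ^ (n + 1) ≤ m ^ n)
      ((seq (n + 1)).1 a) = (seq n).1 a := fun n a => hcompat n _ _ a
  choose x hx using fun (n : ℕ) (a : A) => Ideal.Quotient.mk_surjective ((seq n).1 a)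
  have hsucc : ∀ n a, x (n + 1) a - x n a ∈ m ^ n := fun n a => by
    have h := hseq n a
    rw [← hx (n + 1) a, ← hx n a] at h
    exact Ideal.Quotient.eq.1 h
  have hcauchy : ∀ a {i j : ℕ}, i ≤ j → x j a - x i a ∈ m ^ i := by
    intro a i j hij
    induction hij with
    | refl => simp
    | @step l hl ih =>
      have := add_mem (Ideal.pow_le_pow_right hl (hsucc l a)) ih
      rwa [sub_add_sub_cancel] at this
  have hlim : ∀ a, ∃ L : A, ∀ n, Ideal.Quotient.mk (m ^ n) L = (seq n).1 a := fun a => by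
    obtain ⟨L, hL⟩ := IsPrecomplete.prec (I := m) (M := A) inferInstance (f := fun n => x n a) fun {i j} hij => by
      rw [SModEq.sub_mem, smul_eq_mul, Ideal.mul_top, ← neg_mem_iff, neg_sub]
      exact hcauchy a hij
    refine ⟨L, fun n => ?_⟩
    have h := hL n
    rw [SModEq.sub_mem, smul_eq_mul, Ideal.mul_top, ← neg_mem_iff, neg_sub] at h
    rw [← hx n a]
    exact Ideal.Quotient.eq.2 h
  choose DA hDA using hlim
  have hext : ∀ u v : A, (∀ n, Ideal.Quotient.mk (m ^ n) u = Ideal.Quotient.mk (m ^ n) v) → u = v := fun u v h =>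
    IsHausdorff.eq_iff_smodEq (I := m).2 fun n => by
      rw [SModEq.sub_mem, smul_eq_mul, Ideal.mul_top]
      exact Ideal.Quotient.eq.1 (h n)
  let L : A →ₗ[k] A :=
    { toFun := DA
      map_add' := fun a b => hext _ _ fun n => by rw [map_add, hDA, hDA, hDA, map_add]
      map_smul' := fun c a => hext _ _ fun n => by
        rw [RingHom.id_apply, Algebra.smul_def c (DA a), map_mul, hDA, hDA, Derivation.map_smul, Algebra.smul_def]
        rfl }
  refine ⟨Derivation.mk' L fun a b => hext _ _ fun n => ?_, fun a => ?_⟩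
  · show Ideal.Quotient.mk _ (DA (a * b)) = Ideal.Quotient.mk _ (a * DA b + b * DA a)
    rw [map_add, map_mul, map_mul, hDA, hDA, hDA, Derivation.leibniz, Algebra.smul_def, Algebra.smul_def]
    rfl
  · show Ideal.Quotient.mk P (DA a) = Db a
    obtain ⟨y, hy⟩ := Ideal.Quotient.mk_surjective (Db a)
    rw [← hy]
    refine Ideal.Quotient.eq.2 ?_
    have h1 : ∀ n, Ideal.Quotient.mk P (DA a - y) ∈ (m ^ n • ⊤ : Submodule A (A ⧸ P)) := fun n => by
      have h := (seq n).2 a
      rw [← hDA a n, ← hy] at h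
      obtain ⟨t, ht, s, hs, hts⟩ := Submodule.mem_sup.1 (Ideal.Quotient.eq.1 h)
      rw [← hts, map_add, Ideal.Quotient.eq_zero_iff_mem.2 ht, zero_add,
        show Ideal.Quotient.mk P s = s • (1 : A ⧸ P) by simp [Algebra.smul_def]]
      exact Submodule.smul_mem_smul hs trivial
    have h2 : Ideal.Quotient.mk P (DA a - y) ∈ (⨅ n, m ^ n • ⊤ : Submodule A (A ⧸ P)) :=
      Submodule.mem_iInf _ |>.2 h1
    rw [Ideal.iInf_pow_smul_eq_bot_of_isLocalRing m (maximalIdeal.isMaximal A).ne_top, Submodule.mem_bot] at h2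
    exact Ideal.Quotient.eq_zero_iff_mem.1 h2

end GrothLib.NagataFS
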