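import Groth.Prelude
import Groth.Agent.Lib.SepField.Smooth
import Mathlib.RingTheory.Smooth.Basic
import Mathlib.Algebra.TrivSqZeroExt.Basic
import Mathlib.LinearAlgebra.Matrix.NonsingularInverse

/-!
# The Jacobian condition implies formal smoothness of a quotient
-/

set_option autoImplicit false
universe u

open IsLocalRing

namespace GrothLib.NagataFS

/-- Formal smoothness over a separable field extension gives formal smoothness over the ground field. -/
theorem adicFS_of_separable {k K₀ A : Type u} [Field k] [Field K₀] [CommRing A] [Algebra k K₀] [Algebra k A]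
    [Algebra K₀ A] [IsScalarTower k K₀ A] [Algebra.IsGeometricallyReduced k K₀] (I : Ideal A)
    (hA : CAlgX.IsAdicFormallySmooth K₀ A I) : CAlgX.IsAdicFormallySmooth k A I := by
  intro C _ _ J hJ ψ hψ
  haveI : Algebra.FormallySmooth k K₀ :=
    (GrothLib.SepField.formallySmooth_iff_isGeometricallyReduced).2 inferInstance
  obtain ⟨σ, hσ⟩ := Algebra.FormallySmooth.comp_surjective k K₀ J hJ (ψ.comp (IsScalarTower.toAlgHom k K₀ A))
  letI : Algebra K₀ C := σ.toRingHom.toAlgebra
  let ψ' : A →ₐ[K₀] C ⧸ J := { ψ with commutes' := fun c => (AlgHom.congr_fun hσ c).symm }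
  obtain ⟨χ, hχ⟩ := hA C J hJ ψ' hψ
  exact ⟨{ χ with commutes' := fun c => (by
    show χ (algebraMap k A c) = algebraMap k C c
    rw [IsScalarTower.algebraMap_apply k K₀ A, χ.commutes]
    exact σ.commutes c) }, AlgHom.ext fun a => AlgHom.congr_fun hχ a⟩

/-- A section along a square-zero surjection of a formally smooth algebra, for an arbitrary base map. -/
theorem exists_section {R S C : Type u} [CommRing R] [CommRing S] [CommRing C] [Algebra R S]
    [Algebra.FormallySmooth R S] (Φ : R →+* C) (π : C →+* S) (hπ : Function.Surjective π)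
    (hsq : RingHom.ker π ^ 2 = ⊥) (h : π.comp Φ = algebraMap R S) :
    ∃ σ : S →+* C, (∀ s, π (σ s) = s) ∧ ∀ r, σ (algebraMap R S r) = Φ r := by
  letI : Algebra R C := Φ.toAlgebra
  let πa : C →ₐ[R] S := { π with commutes' := fun r => RingHom.congr_fun h r }
  have hnil : IsNilpotent (RingHom.ker πa.toRingHom) := ⟨2, hsq⟩
  exact ⟨(Algebra.FormallySmooth.liftOfSurjective (AlgHom.id R S) πa hπ hnil).toRingHom,
    fun s => Algebra.FormallySmooth.liftOfSurjective_apply (AlgHom.id R S) πa hπ hnil s,
    fun r => (Algebra.FormallySmooth.liftOfSurjective (AlgHom.id R S) πa hπ hnil).commutes r⟩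

/-- Derivations extend along formally smooth algebras. -/
theorem exists_extend {k R S : Type u} [CommRing k] [CommRing R] [CommRing S] [Algebra k R] [Algebra k S]
    [Algebra R S] [IsScalarTower k R S] [Algebra.FormallySmooth R S] (δ : Derivation k R S) :
    ∃ η : Derivation k S S, ∀ r, η (algebraMap R S r) = δ r := by
  let Φ : R →+* TrivSqZeroExt S S :=
    { toFun := fun r => TrivSqZeroExt.inl (algebraMap R S r) + TrivSqZeroExt.inr (δ r)
      map_one' := by ext <;> simp
      map_zero' := by ext <;> simp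
      map_add' := fun a b => by ext <;> simp
      map_mul' := fun a b => by
        refine TrivSqZeroExt.ext ?_ ?_
        · simp only [TrivSqZeroExt.fst_mul, TrivSqZeroExt.fst_add, TrivSqZeroExt.fst_inl, TrivSqZeroExt.fst_inr,
            add_zero, map_mul]
        · simp only [TrivSqZeroExt.snd_mul, TrivSqZeroExt.snd_add, TrivSqZeroExt.snd_inl, TrivSqZeroExt.snd_inr,
            TrivSqZeroExt.fst_add, TrivSqZeroExt.fst_inl, TrivSqZeroExt.fst_inr, add_zero, zero_add,
            Derivation.leibniz, Algebra.smul_def, op_smul_eq_smul, smul_eq_mul, Algebra.algebraMap_self, RingHom.id_apply] }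
  let π : TrivSqZeroExt S S →+* S := (TrivSqZeroExt.fstHom S S S).toRingHom
  have hsq : RingHom.ker π ^ 2 = ⊥ := by
    rw [pow_two, eq_bot_iff, Ideal.mul_le]
    intro x hx y hy
    have hx' : x.fst = 0 := hx
    have hy' : y.fst = 0 := hy
    rw [Ideal.mem_bot]
    ext <;> simp [hx', hy']
  obtain ⟨σ, hσ, hσR⟩ := exists_section Φ π (fun s => ⟨TrivSqZeroExt.inl s, rfl⟩) hsq
    (RingHom.ext fun r => by simp [π, Φ])
  have hfst : ∀ s, (σ s).fst = s := hσ
  have hk : ∀ c : k, σ (algebraMap k S c) = TrivSqZeroExt.inl (algebraMap k S c) := fun c => by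
    rw [IsScalarTower.algebraMap_apply k R S, hσR]
    simp [Φ]
  let L : S →ₗ[k] S :=
    { toFun := fun s => (σ s).snd
      map_add' := fun a b => by simp
      map_smul' := fun c a => by
        simp [Algebra.smul_def, hk, TrivSqZeroExt.snd_mul, hfst] }
  refine ⟨Derivation.mk' L fun a b => ?_, fun r => ?_⟩
  · show (σ (a * b)).snd = a • (σ b).snd + b • (σ a).snd
    simp [TrivSqZeroExt.snd_mul, hfst, mul_comm]
  · show (σ (algebraMap R S r)).snd = δ r
    rw [hσR]
    simp [Φ]

/-- The Jacobian condition makes a quotient of a formally smooth algebra formally smooth. -/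
theorem adicFS_quotient {k R B : Type u} [CommRing k] [CommRing R] [CommRing B] [Algebra k R] [Algebra k B]
    (g : R →ₐ[k] B) (hg : Function.Surjective g) (I : Ideal R) (I' : Ideal B) (hI : I.map g ≤ I')
    (hR : CAlgX.IsAdicFormallySmooth k R I) {m : ℕ} (D : Fin m → Derivation k R R) (f : Fin m → R)
    (hker : RingHom.ker g = Ideal.span (Set.range f))
    (hdet : IsUnit (Matrix.det (Matrix.of fun i j => D i (f j)))) :
    CAlgX.IsAdicFormallySmooth k B I' := by
  intro C _ _ J hJ ψ hψ
  obtain ⟨N, hN⟩ := hψ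
  obtain ⟨χ, hχ⟩ := hR C J hJ (ψ.comp g) ⟨N, fun x hx => hN _ (by
    have h1 := Ideal.mem_map_of_mem g hx
    rw [Ideal.map_pow] at h1
    exact Ideal.pow_right_mono hI N h1)⟩
  have hmk : ∀ x, Ideal.Quotient.mk J (χ x) = ψ (g x) := fun x => AlgHom.congr_fun hχ x
  have hsq : ∀ x ∈ J, ∀ y ∈ J, x * y = 0 := fun x hx y hy => by
    have := Ideal.mul_mem_mul hx hy
    rwa [← pow_two, hJ, Ideal.mem_bot] at this
  have hfJ : ∀ j, χ (f j) ∈ J := fun j => by
    rw [← Ideal.Quotient.eq_zero_iff_mem, hmk]
    have : g (f j) = 0 := RingHom.mem_ker.1 (hker.ge (Ideal.subset_span ⟨j, rfl⟩))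
    rw [this, map_zero]
  let M : Matrix (Fin m) (Fin m) C := (Matrix.of fun i j => D i (f j)).map χ
  have hM : IsUnit M.det := by
    have h1 : M.det = χ (Matrix.det (Matrix.of fun i j => D i (f j))) := (RingHom.map_det χ.toRingHom _).symm
    rw [h1]
    exact hdet.map χ
  let c : Fin m → C := Matrix.vecMul (fun j => -χ (f j)) M⁻¹
  have hc : ∀ i, c i ∈ J := fun i => by
    show ∑ j, -χ (f j) * M⁻¹ j i ∈ J
    exact Ideal.sum_mem _ fun j _ => J.mul_mem_right _ (neg_mem (hfJ j))
  have hcM : ∀ j, ∑ i, c i * χ (D i (f j)) = -χ (f j) := fun j => by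
    have h1 : Matrix.vecMul c M = fun j => -χ (f j) := by
      rw [Matrix.vecMul_vecMul, Matrix.nonsing_inv_mul M hM, Matrix.vecMul_one]
    exact congrFun h1 j
  let χ' : R →ₐ[k] C :=
    AlgHom.ofLinearMap (χ.toLinearMap + ∑ i, (LinearMap.mulLeft k (c i)).comp (χ.toLinearMap.comp (D i).toLinearMap))
      (by simp) (fun x y => by
        simp only [LinearMap.add_apply, LinearMap.coe_sum, Finset.sum_apply, LinearMap.comp_apply,
          AlgHom.toLinearMap_apply, LinearMap.mulLeft_apply, Derivation.coeFn_coe,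
          map_mul, Derivation.leibniz, map_add, smul_eq_mul]
        have h0 : (∑ i, c i * χ (D i x)) * (∑ i, c i * χ (D i y)) = 0 :=
          hsq _ (Ideal.sum_mem _ fun i _ => J.mul_mem_right _ (hc i)) _
            (Ideal.sum_mem _ fun i _ => J.mul_mem_right _ (hc i))
        simp only [← mul_add]
        rw [show (∑ i, c i * (χ x * χ (D i y) + χ y * χ (D i x))) =
          χ x * (∑ i, c i * χ (D i y)) + χ y * (∑ i, c i * χ (D i x)) by
          simp only [Finset.mul_sum, ← Finset.sum_add_distrib]
          exact Finset.sum_congr rfl fun i _ => by ring]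
        linear_combination -h0)
  have hχ' : ∀ x, χ' x = χ x + ∑ i, c i * χ (D i x) := fun x => by simp [χ']
  have hkill : RingHom.ker g ≤ RingHom.ker χ' := by
    rw [hker, Ideal.span_le]
    rintro _ ⟨j, rfl⟩
    show χ' (f j) = 0
    rw [hχ', hcM, add_neg_cancel]
  refine ⟨AlgHom.liftOfSurjective g hg χ' hkill, AlgHom.ext fun b => ?_⟩
  obtain ⟨x, rfl⟩ := hg b
  rw [AlgHom.comp_apply]
  erw [AlgHom.liftOfSurjective_apply]
  show Ideal.Quotient.mk J (χ' x) = ψ (g x)
  rw [hχ', map_add, hmk, Ideal.Quotient.eq_zero_iff_mem.2 (Ideal.sum_mem _ fun i _ => J.mul_mem_right _ (hc i)),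
    add_zero]

end GrothLib.NagataFS
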